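import Cfsg.Agent.Lib.Schur.Co1M.Engine

/-!
# Tail certificate for the central quotient of the automorphism group of the lattice at the prime 2
-/

set_option autoImplicit false
set_option maxRecDepth 1000000
set_option maxHeartbeats 0

namespace Cfsg.Agent.Lib.Schur.Co1M.P2

open Cfsg Cfsg.Agent.Lib.Schur.PcMain Cfsg.Agent.Lib.Schur.Co1M.Engine

def rule_0 : List (List ℕ) := [[6, 7]]

def rule_1 : List (List ℕ) := [[1, 5], []]

def rule_2 : List (List ℕ) := [[2, 6], [2, 5, 9], [7, 10]]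

def rule_3 : List (List ℕ) := [[3, 7], [3, 9], [3, 5, 6, 7, 9, 14], [5, 6, 14]]

def rule_4 : List (List ℕ) := [[4, 8], [4, 13], [4, 8, 11, 12, 13, 15, 17, 18, 19], [4, 8, 12, 13, 18, 19, 20], []]

def rule_5 : List (List ℕ) := [[5, 9, 14], [5], [5, 9, 14], [5, 9, 14], [5, 13, 18, 20], []]

def rule_6 : List (List ℕ) := [[6, 10], [6, 14], [6, 10], [6, 9, 14], [6, 11], [6, 14], [14]]

def rule_7 : List (List ℕ) := [[7, 10], [7, 9], [7, 14], [7, 9, 10, 14], [7, 12], [7], [7, 14], []]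

def rule_8 : List (List ℕ) := [[8, 11, 12, 16, 17, 18], [8, 16], [8, 12, 17, 18, 20], [8, 11, 13, 15, 16, 17, 19, 20], [8], [8, 13, 18, 19, 20], [8, 13, 17, 20], [8, 13, 20], []]

def rule_9 : List (List ℕ) := [[9, 14], [9], [9], [9, 14], [9, 13, 18, 19, 20], [9], [9], [9], [9, 19], []]

def rule_10 : List (List ℕ) := [[10, 14], [10, 14], [10, 14], [10], [10, 15], [10], [10], [10], [10, 17], [10], []]

def rule_11 : List (List ℕ) := [[11, 13, 15, 18], [11, 16, 20], [11, 13, 15, 16, 17, 18], [11, 16, 18, 19, 20], [11], [11, 16], [11, 16, 18], [11, 16, 17, 18], [11], [11, 18], [11, 18, 19, 20], []]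

def rule_12 : List (List ℕ) := [[12, 13, 15, 17, 20], [12, 13, 18, 19], [12, 13, 17, 18, 19, 20], [12, 15, 16, 17, 18], [12], [12, 20], [12, 17, 19, 20], [12], [12], [12, 20], [12, 19], [12], []]

def rule_13 : List (List ℕ) := [[13, 16, 19, 20], [13], [13, 18, 19, 20], [13, 16, 19, 20], [13], [13, 20], [13, 18, 20], [13], [13], [13], [13, 19], [13], [13], []]

def rule_14 : List (List ℕ) := [[14], [14], [14], [14], [14, 16, 18], [14], [14], [14], [14, 18, 19, 20], [14], [14], [14, 20], [14, 19], [14, 20], []]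

def rule_15 : List (List ℕ) := [[15, 16, 17, 19], [15, 16, 18, 19], [15, 16, 17, 18, 19], [15, 17], [15], [15, 19], [15, 18, 19, 20], [15, 19], [15], [15, 19], [15], [15], [15], [15], [15, 20], []]

def rule_16 : List (List ℕ) := [[16, 18], [16], [16, 18, 19, 20], [16, 18], [16], [16], [16], [16, 19, 20], [16], [16, 20], [16, 20], [16], [16], [16], [16], [16], []]

def rule_17 : List (List ℕ) := [[17], [17, 18, 19], [17, 18, 19, 20], [17, 18], [17], [17, 19], [17, 19], [17, 19], [17], [17], [17], [17], [17], [17], [17], [17], [17], []]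

def rule_18 : List (List ℕ) := [[18, 19, 20], [18, 20], [18, 19, 20], [18], [18], [18, 20], [18, 20], [18, 20], [18], [18], [18], [18], [18], [18], [18], [18], [18], [18], []]

def rule_19 : List (List ℕ) := [[19], [19, 20], [19, 20], [19, 20], [19], [19], [19], [19], [19], [19], [19], [19], [19], [19], [19], [19], [19], [19], [19], []]

def rule_20 : List (List ℕ) := [[20], [20], [20], [20], [20], [20], [20], [20], [20], [20], [20], [20], [20], [20], [20], [20], [20], [20], [20], [20], []]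

def item_0 : List (List ℕ) × List (List ℕ) := ([[0, 3], [1], [2], [4], [5], [6], [7], [8], [9], [10], [11], [12], [13], [14], [15], [16], [17], [18], [19], [20]], [[2, 6, 7, 9, 13, 19, 20], [1, 9, 13, 14, 19], [2, 5, 9, 10, 13, 17, 19, 20], [4, 11, 15, 16, 18, 19], [5, 9, 19], [0, 2, 3, 5, 6, 14, 19, 20], [5, 9, 10, 19, 20], [11, 12, 13, 15, 19], [14, 19, 20], [5, 7, 19, 20], [8, 12, 13, 15, 18, 20], [15, 16], [16, 19, 20], [9], [12, 13, 17], [13, 18, 20], [17, 18, 19, 20], [18, 20], [19, 20], [20]])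

def item_1 : List (List ℕ) × List (List ℕ) := ([[0, 2], [1], [3], [4], [5], [6], [7], [8], [9], [10], [11], [12], [13], [14], [15], [16], [17], [18], [19], [20]], [[0, 2, 5, 6, 9, 11, 13, 17], [1, 9, 18, 19], [0, 1, 2, 6, 7, 11, 12, 13, 16, 19], [4, 8, 12, 13, 16, 20], [1, 5, 9, 18], [1, 5, 10, 13, 15, 17, 20], [0, 1, 2, 3, 5, 8, 9, 11, 12, 13, 14, 15, 19], [8, 13, 16, 20], [9, 13, 14, 16, 18, 20], [5, 6, 9, 11, 17, 18, 20], [15, 16, 17, 18, 20], [8, 11, 12, 15, 16, 19], [13, 16, 19], [14, 16, 19], [11, 18], [16, 19], [17, 18, 20], [19], [18, 20], [20]])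

def item_2 : List (List ℕ) × List (List ℕ) := ([[0, 3], [1], [2, 3], [4], [5], [6], [7], [8], [9], [10], [11], [12], [13], [14], [15], [16], [17], [18], [19], [20]], [[1, 2, 3, 5, 7, 9, 12, 16, 18], [1, 5, 13, 14, 18], [6, 7, 10, 11, 12, 15, 16, 19, 20], [8, 11, 15, 16, 17, 19], [5, 13, 18], [0, 1, 2, 5, 6, 9, 13, 16, 19], [0, 1, 3, 6, 7, 9, 15, 19], [4, 11, 13, 16, 18, 20], [5, 9, 14, 16, 18, 19, 20], [5, 10, 13, 14, 15, 16], [11, 13, 15, 16, 17, 18, 20], [12, 13, 15, 16, 17, 18, 19], [13, 20], [14, 16, 18, 19], [13, 16, 17, 18], [16], [13, 15, 18, 19], [16, 18, 19, 20], [19], [20]])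

def item_3 : List (List ℕ) × List (List ℕ) := ([[0], [1], [2], [3], [5], [6], [7], [8], [9], [10], [11], [12], [13], [14], [15], [16], [17], [18], [19], [20]], [[2, 3, 8, 11, 17, 18, 19], [1, 5, 13, 14, 18], [0, 3, 5, 6, 7, 8, 11, 12, 14, 15, 16, 18, 20], [0, 2, 5, 6, 8, 10, 11, 13, 16, 18, 19, 20], [5, 9, 14, 16, 18, 19, 20], [5, 9, 11, 14, 15, 16, 18], [5, 9, 12, 14, 16, 17, 18], [0, 2, 3, 6, 10, 14, 18], [13, 20], [15, 16, 19, 20], [5, 6, 10, 17, 18, 19, 20], [5, 7, 17, 19], [9], [16, 18, 20], [10, 14, 17], [14, 19], [17, 18], [18, 19], [19, 20], [20]])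

def item_4 : List (List ℕ) × List (List ℕ) := ([[0], [1, 3], [2, 3], [4], [5], [6], [7], [8], [9], [10], [11], [12], [13], [14], [15], [16], [17], [18], [19], [20]], [[1, 3, 5, 10], [1, 3, 10], [2, 3, 6, 7, 10, 14], [4, 8, 15, 16, 17, 19], [0, 1, 3, 6, 7], [0, 1, 3, 9, 10, 14], [0, 1, 3, 5, 6, 14], [8, 11, 12, 16, 18], [5, 7, 10, 14], [5, 7, 10], [11, 16, 17, 18, 20], [15, 16, 17], [12, 13, 15, 16, 19, 20], [9, 10], [12, 13, 15, 17, 20], [13, 15, 18, 19], [18, 19], [17, 19, 20], [19], [19, 20]])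

def ov_0 : List ℕ × ℕ × ℕ × List (ℕ × ℤ) := ([6, 6, 6], 0, 1, [(14006, 1)])

def ov_1 : List ℕ × ℕ × ℕ × List (ℕ × ℤ) := ([1, 1, 0], 0, 1, [(1000, -2), (5001, -1), (5005, -1)])

def ov_2 : List ℕ × ℕ × ℕ × List (ℕ × ℤ) := ([3, 1, 1], 0, 1, [(3001, 2), (9001, 1), (9009, 1)])

def ov_3 : List ℕ × ℕ × ℕ × List (ℕ × ℤ) := ([4, 4, 0], 0, 1, [(4000, -2), (8004, -1), (8008, -1)])

def ov_4 : List ℕ × ℕ × ℕ × List (ℕ × ℤ) := ([4, 4, 1], 0, 1, [(4001, -2), (13004, -1), (13013, -1)])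

def ov_5 : List ℕ × ℕ × ℕ × List (ℕ × ℤ) := ([6, 1, 1], 0, 1, [(6001, 2), (14001, 1), (14014, 1)])

def ov_6 : List ℕ × ℕ × ℕ × List (ℕ × ℤ) := ([6, 4, 4], 0, 1, [(6004, 2), (11004, 1), (11011, 1)])

def ov_7 : List ℕ × ℕ × ℕ × List (ℕ × ℤ) := ([7, 7, 4], 0, 1, [(7004, -2), (12007, -1), (12012, -1)])

def ov_8 : List ℕ × ℕ × ℕ × List (ℕ × ℤ) := ([7, 4, 4], 0, 1, [(7004, 2), (12004, 1), (12012, 1)])

def ov_9 : List ℕ × ℕ × ℕ × List (ℕ × ℤ) := ([8, 8, 1], 0, 1, [(8001, -2), (16008, -1), (16016, -1)])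

def ov_10 : List ℕ × ℕ × ℕ × List (ℕ × ℤ) := ([8, 1, 1], 0, 1, [(8001, 2), (16001, 1), (16016, 1)])

def ov_11 : List ℕ × ℕ × ℕ × List (ℕ × ℤ) := ([9, 9, 8], 0, 1, [(9008, -2), (19009, -1), (19019, -1)])

def ov_12 : List ℕ × ℕ × ℕ × List (ℕ × ℤ) := ([10, 10, 4], 0, 1, [(10004, -2), (15010, -1), (15015, -1)])

def ov_13 : List ℕ × ℕ × ℕ × List (ℕ × ℤ) := ([10, 4, 4], 0, 1, [(10004, 2), (15004, 1), (15015, 1)])

def ov_14 : List ℕ × ℕ × ℕ × List (ℕ × ℤ) := ([10, 10, 8], 0, 1, [(10008, -2), (17010, -1), (17017, -1)])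

def ov_15 : List ℕ × ℕ × ℕ × List (ℕ × ℤ) := ([11, 11, 9], 0, 1, [(11009, -2), (18011, -1), (18018, -1)])

def ov_16 : List ℕ × ℕ × ℕ × List (ℕ × ℤ) := ([12, 12, 5], 0, 1, [(12005, -2), (20012, -1), (20020, -1)])

def ov_17 : List ℕ × ℕ × ℕ × List (ℕ × ℤ) := ([12, 12, 10], 0, 1, [(12010, -2), (19012, -1), (19019, -1)])

def ov_18 : List ℕ × ℕ × ℕ × List (ℕ × ℤ) := ([0, 0, 0], 0, 1, [(6000, 1), (7000, 1), (10007, 1), (10010, 1)])

def ov_19 : List ℕ × ℕ × ℕ × List (ℕ × ℤ) := ([2, 2, 2], 0, 1, [(7002, 1), (10002, 1), (14010, 1), (14014, 1)])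

def ov_20 : List ℕ × ℕ × ℕ × List (ℕ × ℤ) := ([7, 5, 1], 0, 1, [(9005, -1)])

def ov_21 : List ℕ × ℕ × ℕ × List (ℕ × ℤ) := ([9, 6, 1], 0, 1, [(14009, 1)])

def ov_22 : List ℕ × ℕ × ℕ × List (ℕ × ℤ) := ([9, 6, 2], 0, 1, [(10009, 1)])

def ov_23 : List ℕ × ℕ × ℕ × List (ℕ × ℤ) := ([10, 5, 1], 0, 1, [(14005, -1)])

def ov_24 : List ℕ × ℕ × ℕ × List (ℕ × ℤ) := ([10, 6, 5], 0, 1, [(14010, 1)])

def ov_25 : List ℕ × ℕ × ℕ × List (ℕ × ℤ) := ([12, 7, 5], 0, 1, [(20007, -1)])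

def ov_26 : List ℕ × ℕ × ℕ × List (ℕ × ℤ) := ([12, 10, 7], 0, 1, [(19007, 1)])

def ov_27 : List ℕ × ℕ × ℕ × List (ℕ × ℤ) := ([13, 5, 1], 0, 1, [(20001, 1)])

def ov_28 : List ℕ × ℕ × ℕ × List (ℕ × ℤ) := ([13, 7, 1], 0, 1, [(13009, -1)])

def ov_29 : List ℕ × ℕ × ℕ × List (ℕ × ℤ) := ([13, 7, 4], 0, 1, [(13012, -1)])

def ov_30 : List ℕ × ℕ × ℕ × List (ℕ × ℤ) := ([13, 8, 1], 0, 1, [(16013, 1)])

def ov_31 : List ℕ × ℕ × ℕ × List (ℕ × ℤ) := ([13, 9, 5], 0, 1, [(20009, -1)])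

def ov_32 : List ℕ × ℕ × ℕ × List (ℕ × ℤ) := ([13, 9, 8], 0, 1, [(19013, 1)])

def ov_33 : List ℕ × ℕ × ℕ × List (ℕ × ℤ) := ([13, 10, 9], 0, 1, [(19009, 1)])

def ov_34 : List ℕ × ℕ × ℕ × List (ℕ × ℤ) := ([13, 11, 9], 0, 1, [(18013, 1)])

def ov_35 : List ℕ × ℕ × ℕ × List (ℕ × ℤ) := ([13, 12, 9], 0, 1, [(20013, 1)])

def ov_36 : List ℕ × ℕ × ℕ × List (ℕ × ℤ) := ([14, 3, 0], 0, 1, [(14007, -1)])

def ov_37 : List ℕ × ℕ × ℕ × List (ℕ × ℤ) := ([15, 10, 3], 0, 1, [(17010, -1)])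

def ov_38 : List ℕ × ℕ × ℕ × List (ℕ × ℤ) := ([15, 10, 5], 0, 1, [(19010, -1)])

def ov_39 : List ℕ × ℕ × ℕ × List (ℕ × ℤ) := ([15, 10, 8], 0, 1, [(17015, 1)])

def ov_40 : List ℕ × ℕ × ℕ × List (ℕ × ℤ) := ([15, 12, 7], 0, 1, [(19012, -1)])

def ov_41 : List ℕ × ℕ × ℕ × List (ℕ × ℤ) := ([15, 12, 10], 0, 1, [(19015, 1)])

def ov_42 : List ℕ × ℕ × ℕ × List (ℕ × ℤ) := ([15, 14, 10], 0, 1, [(20010, 1)])

def ov_43 : List ℕ × ℕ × ℕ × List (ℕ × ℤ) := ([16, 6, 1], 0, 1, [(16014, -1)])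

def ov_44 : List ℕ × ℕ × ℕ × List (ℕ × ℤ) := ([16, 6, 4], 0, 1, [(16011, -1)])

def ov_45 : List ℕ × ℕ × ℕ × List (ℕ × ℤ) := ([16, 9, 5], 0, 1, [(20005, 1)])

def ov_46 : List ℕ × ℕ × ℕ × List (ℕ × ℤ) := ([16, 9, 6], 0, 1, [(20006, 1)])

def ov_47 : List ℕ × ℕ × ℕ × List (ℕ × ℤ) := ([16, 12, 5], 0, 1, [(20016, 1)])

def ov_48 : List ℕ × ℕ × ℕ × List (ℕ × ℤ) := ([16, 14, 0], 0, 1, [(18014, -1)])

def ov_49 : List ℕ × ℕ × ℕ × List (ℕ × ℤ) := ([16, 14, 9], 0, 1, [(20014, -1)])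

def ov_50 : List ℕ × ℕ × ℕ × List (ℕ × ℤ) := ([16, 14, 12], 0, 1, [(19016, 1)])

def ov_51 : List ℕ × ℕ × ℕ × List (ℕ × ℤ) := ([16, 15, 10], 0, 1, [(20015, -1)])

def ov_52 : List ℕ × ℕ × ℕ × List (ℕ × ℤ) := ([17, 4, 0], 0, 1, [(17008, -1)])

def ov_53 : List ℕ × ℕ × ℕ × List (ℕ × ℤ) := ([17, 9, 0], 0, 1, [(17014, -1)])

def ov_54 : List ℕ × ℕ × ℕ × List (ℕ × ℤ) := ([17, 9, 8], 0, 1, [(19017, 1)])

def ov_55 : List ℕ × ℕ × ℕ × List (ℕ × ℤ) := ([17, 10, 3], 0, 1, [(18010, -1)])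

def ov_56 : List ℕ × ℕ × ℕ × List (ℕ × ℤ) := ([17, 11, 9], 0, 1, [(18017, 1)])

def ov_57 : List ℕ × ℕ × ℕ × List (ℕ × ℤ) := ([17, 12, 9], 0, 1, [(20017, 1)])

def ov_58 : List ℕ × ℕ × ℕ × List (ℕ × ℤ) := ([17, 14, 5], 0, 1, [(19014, -1)])

def ov_59 : List ℕ × ℕ × ℕ × List (ℕ × ℤ) := ([18, 9, 8], 0, 1, [(19018, 1)])

def ov_60 : List ℕ × ℕ × ℕ × List (ℕ × ℤ) := ([18, 10, 4], 0, 1, [(18015, -1)])

def ov_61 : List ℕ × ℕ × ℕ × List (ℕ × ℤ) := ([18, 12, 7], 0, 1, [(20012, -1)])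

def ov_62 : List ℕ × ℕ × ℕ × List (ℕ × ℤ) := ([18, 12, 9], 0, 1, [(20018, 1)])

def ov_63 : List ℕ × ℕ × ℕ × List (ℕ × ℤ) := ([19, 4, 0], 0, 1, [(19008, -1)])

def ov_64 : List ℕ × ℕ × ℕ × List (ℕ × ℤ) := ([19, 6, 4], 0, 1, [(19011, -1)])

def ov_65 : List ℕ × ℕ × ℕ × List (ℕ × ℤ) := ([19, 12, 5], 0, 1, [(20019, 1)])

def ov_66 : List ℕ × ℕ × ℕ × List (ℕ × ℤ) := ([20, 4, 0], 0, 1, [(20008, -1)])

def ov_67 : List ℕ × ℕ × ℕ × List (ℕ × ℤ) := ([20, 6, 4], 0, 1, [(20011, -1)])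

def ov_68 : List ℕ × ℕ × ℕ × List (ℕ × ℤ) := ([13, 9, 6], 0, 1, [(18009, -1), (20009, -1)])

def ov_69 : List ℕ × ℕ × ℕ × List (ℕ × ℤ) := ([16, 7, 5], 0, 1, [(19005, 1), (20005, 1)])

def ov_70 : List ℕ × ℕ × ℕ × List (ℕ × ℤ) := ([16, 13, 6], 0, 1, [(18016, 1), (20016, 1)])

def ov_71 : List ℕ × ℕ × ℕ × List (ℕ × ℤ) := ([17, 14, 4], 0, 1, [(17016, -1), (18017, 1)])

def ov_72 : List ℕ × ℕ × ℕ × List (ℕ × ℤ) := ([9, 1, 0], 0, 1, [(9005, -1), (14001, -1), (14005, -1)])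

def ov_73 : List ℕ × ℕ × ℕ × List (ℕ × ℤ) := ([10, 3, 1], 0, 1, [(10009, -1), (14003, -1), (14009, -1)])

def ov_74 : List ℕ × ℕ × ℕ × List (ℕ × ℤ) := ([10, 9, 8], 0, 1, [(17009, -1), (19010, 1), (19017, 1)])

def ov_75 : List ℕ × ℕ × ℕ × List (ℕ × ℤ) := ([11, 9, 8], 0, 1, [(18008, 1), (19011, 1), (19018, 1)])

def ov_76 : List ℕ × ℕ × ℕ × List (ℕ × ℤ) := ([12, 10, 4], 0, 1, [(15012, 1), (19004, 1), (19015, -1)])

def ov_77 : List ℕ × ℕ × ℕ × List (ℕ × ℤ) := ([12, 10, 8], 0, 1, [(17012, 1), (19008, 1), (19017, -1)])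

def ov_78 : List ℕ × ℕ × ℕ × List (ℕ × ℤ) := ([12, 11, 5], 0, 1, [(16012, 1), (20011, -1), (20016, -1)])

def ov_79 : List ℕ × ℕ × ℕ × List (ℕ × ℤ) := ([12, 11, 7], 0, 1, [(16012, 1), (17012, 1), (18012, 1)])

def ov_80 : List ℕ × ℕ × ℕ × List (ℕ × ℤ) := ([13, 10, 8], 0, 1, [(17013, 1), (19008, 1), (19017, -1)])

def ov_81 : List ℕ × ℕ × ℕ × List (ℕ × ℤ) := ([15, 11, 5], 0, 1, [(16015, 1), (19011, -1), (19016, -1)])

def ov_82 : List ℕ × ℕ × ℕ × List (ℕ × ℤ) := ([15, 14, 3], 0, 1, [(17014, -1), (20003, 1), (20017, -1)])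

def ov_83 : List ℕ × ℕ × ℕ × List (ℕ × ℤ) := ([16, 10, 4], 0, 1, [(16015, -1), (20004, 1), (20015, -1)])

def ov_84 : List ℕ × ℕ × ℕ × List (ℕ × ℤ) := ([17, 6, 0], 0, 1, [(17010, -1), (19000, 1), (19010, -1)])

def ov_85 : List ℕ × ℕ × ℕ × List (ℕ × ℤ) := ([17, 7, 4], 0, 1, [(17012, -1), (19004, 1), (19012, -1)])

def ov_86 : List ℕ × ℕ × ℕ × List (ℕ × ℤ) := ([18, 6, 4], 0, 1, [(18011, -1), (20004, 1), (20011, -1)])

def ov_87 : List ℕ × ℕ × ℕ × List (ℕ × ℤ) := ([19, 1, 0], 0, 1, [(19005, -1), (20000, 1), (20005, -1)])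

def ov_88 : List ℕ × ℕ × ℕ × List (ℕ × ℤ) := ([19, 2, 0], 0, 1, [(19006, -1), (20000, 1), (20006, -1)])

def ov_89 : List ℕ × ℕ × ℕ × List (ℕ × ℤ) := ([6, 6, 0], 0, 1, [(6000, -2), (10006, -1), (10010, -1), (14000, 1), (14010, -2)])

def ov_90 : List ℕ × ℕ × ℕ × List (ℕ × ℤ) := ([16, 3, 1], 0, 1, [(16009, -1), (18001, 1), (18009, -1), (20018, -1)])

def ov_91 : List ℕ × ℕ × ℕ × List (ℕ × ℤ) := ([9, 3, 0], 0, 1, [(9007, -1), (14000, 1), (14003, -1)])

def ov_92 : List ℕ × ℕ × ℕ × List (ℕ × ℤ) := ([9, 8, 1], 0, 1, [(16009, 1), (19001, 1), (19016, -1), (20019, 1), (20020, 1)])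

def ov_93 : List ℕ × ℕ × ℕ × List (ℕ × ℤ) := ([10, 7, 4], 0, 1, [(12010, 1), (15007, -1), (15012, -1), (19012, -1), (19015, 1)])

def ov_94 : List ℕ × ℕ × ℕ × List (ℕ × ℤ) := ([15, 8, 7], 0, 1, [(15013, -1), (19008, -1), (19013, -1), (20015, 1), (20019, 1)])

def ov_95 : List ℕ × ℕ × ℕ × List (ℕ × ℤ) := ([17, 4, 1], 0, 1, [(17013, -1), (18004, -1), (18013, -1), (19004, -1), (19013, -1)])

def ov_96 : List ℕ × ℕ × ℕ × List (ℕ × ℤ) := ([5, 1, 0], 0, 1, [(9001, -1), (9005, -1), (14001, -1), (14005, -1)])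

def ov_97 : List ℕ × ℕ × ℕ × List (ℕ × ℤ) := ([7, 5, 2], 0, 1, [(9007, 1), (14005, -1), (14007, 1), (14009, -1)])

def ov_98 : List ℕ × ℕ × ℕ × List (ℕ × ℤ) := ([11, 6, 4], 0, 1, [(16004, 1), (16011, -1), (18004, 1), (18011, -1)])

def ov_99 : List ℕ × ℕ × ℕ × List (ℕ × ℤ) := ([11, 8, 1], 0, 1, [(16008, -1), (16011, 1), (20008, -1), (20016, -1)])

def ov_100 : List ℕ × ℕ × ℕ × List (ℕ × ℤ) := ([17, 8, 0], 0, 1, [(17011, -1), (17012, -1), (17016, -1), (18017, 1)])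

def ov_101 : List ℕ × ℕ × ℕ × List (ℕ × ℤ) := ([19, 2, 1], 0, 1, [(19005, -1), (19009, -1), (20001, 1), (20002, -1)])

def ov_102 : List ℕ × ℕ × ℕ × List (ℕ × ℤ) := ([3, 3, 1], 0, 1, [(3001, -2), (5001, 1), (6001, 1), (9003, -1), (9009, -1), (14001, 1), (14009, -1)])

def ov_103 : List ℕ × ℕ × ℕ × List (ℕ × ℤ) := ([7, 6, 1], 0, 1, [(9006, -1), (14001, 1), (14007, 1)])

def ov_104 : List ℕ × ℕ × ℕ × List (ℕ × ℤ) := ([8, 6, 4], 0, 1, [(11008, 1), (13004, 1), (13011, -1), (17004, 1), (17011, -1), (20004, 1), (20011, -1)])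

def ov_105 : List ℕ × ℕ × ℕ × List (ℕ × ℤ) := ([11, 5, 4], 0, 1, [(13011, 1), (16004, 1), (16013, -1), (18011, 1), (18016, 1), (20011, 1), (20016, 1)])

def ov_106 : List ℕ × ℕ × ℕ × List (ℕ × ℤ) := ([11, 10, 4], 0, 1, [(15011, 1), (18004, 1), (18015, -1), (19004, 1), (19015, -1), (20004, 1), (20015, -1)])

def ov_107 : List ℕ × ℕ × ℕ × List (ℕ × ℤ) := ([12, 8, 1], 0, 1, [(13008, -1), (16012, 1), (16013, 1), (18008, -1), (18016, -1), (19008, -1), (19016, -1)])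

def ov_108 : List ℕ × ℕ × ℕ × List (ℕ × ℤ) := ([10, 8, 7], 0, 1, [(13010, 1), (17007, 1), (17013, -1), (19017, 1), (19019, 1), (20010, 1), (20017, 1), (20019, 1)])

def ov_109 : List ℕ × ℕ × ℕ × List (ℕ × ℤ) := ([12, 4, 1], 0, 1, [(13004, -1), (13012, 1), (18004, -1), (18013, -1), (19004, -1), (19013, -1)])

def ov_110 : List ℕ × ℕ × ℕ × List (ℕ × ℤ) := ([10, 6, 4], 0, 1, [(11010, 1), (15006, -1), (15011, -1), (18011, -1), (18015, 1), (19011, -1), (19015, 1), (20011, -1), (20015, 1)])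

def ov_111 : List ℕ × ℕ × ℕ × List (ℕ × ℤ) := ([12, 7, 6], 0, 1, [(14012, 1), (17007, -1), (17014, -1), (19007, -1), (19017, 1), (20007, -1), (20014, -1)])

def ov_112 : List ℕ × ℕ × ℕ × List (ℕ × ℤ) := ([3, 1, 0], 0, 1, [(5003, 1), (7001, -1), (7005, -1), (9000, 1), (14007, 1), (14009, 1), (14014, 1)])

def ov_113 : List ℕ × ℕ × ℕ × List (ℕ × ℤ) := ([9, 8, 2], 0, 1, [(12009, 1), (17009, 1), (18009, 1), (19002, 1), (19012, -1), (19017, -1), (19018, -1), (20009, 1), (20017, 1), (20018, 1), (20020, 1)])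

def ov_114 : List ℕ × ℕ × ℕ × List (ℕ × ℤ) := ([10, 8, 5], 0, 1, [(13010, 1), (17005, 1), (17013, -1), (18010, 1), (18017, 1), (19010, 1), (19018, 1), (19019, 1), (20010, 1), (20017, 1), (20019, 1)])

def ov_115 : List ℕ × ℕ × ℕ × List (ℕ × ℤ) := ([3, 0, 0], 0, 1, [(3000, 2), (6003, 1), (7000, 1), (7003, 1), (7007, 1), (9007, 1), (9009, 1), (10007, 2), (10010, 1), (14007, 1), (14009, 1), (14010, 1), (14014, 1)])

def ov_116 : List ℕ × ℕ × ℕ × List (ℕ × ℤ) := ([6, 6, 4], 0, 1, [(6004, -2), (11006, -1), (11011, -1), (14004, 1), (14011, -2), (16011, -1), (18011, -1), (20011, -1), (20016, -2), (20018, -2), (20020, -1)])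

def ov_117 : List ℕ × ℕ × ℕ × List (ℕ × ℤ) := ([5, 3, 0], 0, 1, [(7005, 1), (9000, 1), (9003, -1), (14000, 1), (14003, -1), (14007, -1)])

def ov_118 : List ℕ × ℕ × ℕ × List (ℕ × ℤ) := ([7, 3, 1], 0, 1, [(9001, 1), (9003, -1), (9007, 1), (10001, 1), (10009, -2), (14001, 1), (14009, -1)])

def ov_119 : List ℕ × ℕ × ℕ × List (ℕ × ℤ) := ([8, 4, 0], 0, 1, [(11004, -1), (11008, -1), (12004, -1), (12008, -1), (16004, -1), (16008, -1), (17004, -1), (17008, -1), (18004, -1), (18008, -1)])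

def ov_120 : List ℕ × ℕ × ℕ × List (ℕ × ℤ) := ([2, 2, 0], 0, 1, [(2000, -2), (6002, -1), (6006, -1), (7000, 1), (7006, -2), (10000, 1), (10006, -1), (14006, -1), (14007, -1), (14010, -2), (14014, -1)])

def ov_121 : List ℕ × ℕ × ℕ × List (ℕ × ℤ) := ([7, 5, 3], 0, 1, [(9005, -1), (9007, 1), (10005, -1), (10009, -1), (14005, -1), (14007, 1), (14010, 1)])

def ov_122 : List ℕ × ℕ × ℕ × List (ℕ × ℤ) := ([9, 3, 2], 0, 1, [(9005, -1), (9006, -1), (9007, -1), (14002, 1), (14005, -1), (14006, -1), (14007, -1)])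

def ov_123 : List ℕ × ℕ × ℕ × List (ℕ × ℤ) := ([10, 8, 1], 0, 1, [(14008, -1), (16010, 1), (16014, 1), (17001, 1), (17014, -1), (17016, -1), (18016, -1), (19016, -1), (20014, 1), (20016, -1), (20017, 1), (20018, 1), (20019, 1)])

def ov_124 : List ℕ × ℕ × ℕ × List (ℕ × ℤ) := ([13, 10, 2], 0, 1, [(14013, 1), (18010, -1), (18014, -1), (19002, 1), (19010, -1), (19018, -1), (20010, -1), (20014, -1), (20018, 1), (20019, 1), (20020, 1)])

def ov_125 : List ℕ × ℕ × ℕ × List (ℕ × ℤ) := ([14, 8, 7], 0, 1, [(14013, -1), (18007, 1), (18013, -1), (19007, 1), (19013, -1), (20007, 1), (20013, -1), (20014, 1), (20019, -1)])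

def ov_126 : List ℕ × ℕ × ℕ × List (ℕ × ℤ) := ([15, 7, 6], 0, 1, [(15014, -1), (18007, -1), (18014, -1), (19006, 1), (19007, -1), (19018, -1), (20007, -1), (20018, -1), (20020, -1)])

def ov_127 : List ℕ × ℕ × ℕ × List (ℕ × ℤ) := ([15, 9, 2], 0, 1, [(16009, -1), (17009, -1), (18009, -1), (19002, 1), (19009, -1), (19016, -1), (19017, -1), (19018, -1), (20017, -1), (20018, -1), (20019, -1)])

def ov_128 : List ℕ × ℕ × ℕ × List (ℕ × ℤ) := ([17, 6, 2], 0, 1, [(17010, -1), (18006, -1), (18010, -1), (19002, 1), (19006, -1), (19018, -1), (20006, -1)])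

def ov_129 : List ℕ × ℕ × ℕ × List (ℕ × ℤ) := ([8, 7, 1], 0, 1, [(9008, 1), (13001, 1), (13009, -1), (16007, -1), (16009, -1), (16013, 1), (19009, -1), (19013, 1), (19016, 1), (20001, 1), (20016, -1), (20019, -2), (20020, -1)])

def ov_130 : List ℕ × ℕ × ℕ × List (ℕ × ℤ) := ([9, 7, 4], 0, 1, [(12009, 1), (13007, -1), (13012, -1), (18007, -1), (18012, -1), (19007, -1), (19012, -1), (20007, -1), (20013, 1), (20018, 1)])

def ov_131 : List ℕ × ℕ × ℕ × List (ℕ × ℤ) := ([11, 10, 6], 0, 1, [(16010, -1), (18006, 1), (18010, -1), (18016, -1), (19006, 1), (19016, -1), (19018, -1), (20006, 1), (20016, -1), (20019, 1)])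

def ov_132 : List ℕ × ℕ × ℕ × List (ℕ × ℤ) := ([14, 12, 3], 0, 1, [(15014, 1), (16014, 1), (17014, 1), (18014, 1), (19003, 1), (19015, -1), (19016, -1), (19017, -1), (19018, -1), (20016, 1), (20017, 1), (20018, 1), (20019, 1), (20020, 1)])

def ov_133 : List ℕ × ℕ × ℕ × List (ℕ × ℤ) := ([16, 5, 2], 0, 1, [(16009, -1), (16014, -1), (18005, -1), (18009, -1), (18014, -1), (19005, -1), (19009, -1), (19014, -1), (20005, -1), (20014, -1), (20018, -1), (20019, -2), (20020, -1)])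

def ov_134 : List ℕ × ℕ × ℕ × List (ℕ × ℤ) := ([7, 6, 3], 0, 1, [(9006, -1), (9007, 1), (10006, -1), (10009, -1), (14003, 1), (14006, -1), (14007, 1)])

def ov_135 : List ℕ × ℕ × ℕ × List (ℕ × ℤ) := ([8, 7, 5], 0, 1, [(13005, 1), (13007, -1), (18007, -1), (18013, 1), (19007, -1), (19013, 1), (20005, 1), (20007, -1), (20018, -1)])

def ov_136 : List ℕ × ℕ × ℕ × List (ℕ × ℤ) := ([6, 4, 1], 0, 1, [(11001, 1), (13006, 1), (13011, 1), (14004, -1), (14011, 1), (14013, -1), (16013, -1), (18011, 1), (18013, -1), (18014, 1), (18016, 1), (20011, 1), (20014, 1), (20016, -1), (20020, 1)])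

def ov_137 : List ℕ × ℕ × ℕ × List (ℕ × ℤ) := ([15, 7, 0], 0, 1, [(15010, -1), (16007, -1), (16010, -1), (17007, -1), (17010, -1), (19000, 1), (19007, -1), (19016, -1), (19019, -1), (20010, -1), (20017, -2), (20019, -2), (20020, -1)])

def ov_138 : List ℕ × ℕ × ℕ × List (ℕ × ℤ) := ([15, 3, 0], 0, 1, [(15007, -1), (16003, -1), (16007, -1), (17000, 1), (17003, -1), (17016, -1), (18017, -1), (18018, -1), (19003, -1), (19007, -1), (19016, -1), (19017, 1), (19019, -1), (20007, -1), (20019, -1), (20020, -1)])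

def ov_139 : List ℕ × ℕ × ℕ × List (ℕ × ℤ) := ([15, 0, 0], 0, 1, [(15000, 2), (15006, -1), (15007, -1), (16000, 1), (16016, 1), (17000, 1), (17016, 1), (17017, 1), (18007, -1), (18017, 1), (19000, 1), (19007, -1), (19016, 1), (19017, 1), (20007, -1), (20019, -1), (20020, -1)])

def ov_140 : List ℕ × ℕ × ℕ × List (ℕ × ℤ) := ([13, 7, 3], 0, 1, [(13009, -1), (13010, -1), (14013, 1), (16007, -1), (16009, -1), (16010, -1), (16014, -1), (19007, -1), (19014, -1), (19016, -1), (19019, -1), (20007, -1), (20010, -1), (20016, 1), (20020, -1)])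

def ov_141 : List ℕ × ℕ × ℕ × List (ℕ × ℤ) := ([1, 0, 0], 0, 1, [(1000, 2), (5000, 1), (5005, 1), (6001, 1), (6005, 2), (7001, 1), (7005, 2), (9005, 2), (9009, 1), (14005, 1), (14007, 3), (14009, 4), (14014, 2)])

def ov_142 : List ℕ × ℕ × ℕ × List (ℕ × ℤ) := ([6, 5, 4], 0, 1, [(11005, -1), (13006, 1), (13011, 1), (14004, 1), (14011, -1), (14013, -1), (16013, -1), (18006, 1), (18018, 1), (20006, 1), (20011, 1), (20013, -1), (20014, 1), (20016, -1), (20018, 2)])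

def ov_143 : List ℕ × ℕ × ℕ × List (ℕ × ℤ) := ([10, 4, 1], 0, 1, [(13010, 1), (14004, -1), (14013, -1), (15001, 1), (15013, -1), (15014, -1), (16013, -1), (18013, -1), (19014, 1), (19015, 1), (19016, 1), (19018, 1), (19019, 1), (20013, -1), (20015, -1), (20016, -2), (20018, -2), (20020, -1)])

def ov_144 : List ℕ × ℕ × ℕ × List (ℕ × ℤ) := ([11, 10, 3], 0, 1, [(16010, -1), (18003, 1), (18010, -1), (18016, -1), (19003, 1), (19010, -1), (19016, -1), (20003, 1), (20010, -1), (20016, -1), (20018, 1), (20019, 1)])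

def ov_145 : List ℕ × ℕ × ℕ × List (ℕ × ℤ) := ([10, 4, 3], 0, 1, [(10008, -1), (12010, 1), (13010, 1), (15003, 1), (15008, -1), (15012, -1), (15013, -1), (17012, -1), (17013, -1), (17015, -1), (18010, 1), (18015, 1), (18017, 1), (19010, 1), (19013, 1), (19015, 1), (19017, 1), (19019, 1), (20010, 1), (20015, 1), (20017, 1)])

def ov_146 : List ℕ × ℕ × ℕ × List (ℕ × ℤ) := ([11, 3, 1], 0, 1, [(11009, -1), (16001, 1), (16003, -1), (18001, 1), (18016, -1), (18018, -1), (19001, 1), (19009, -1), (19016, -1), (19018, -1), (20001, 1), (20003, -1), (20020, 1)])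

def ov_147 : List ℕ × ℕ × ℕ × List (ℕ × ℤ) := ([12, 11, 0], 0, 1, [(13011, -1), (13012, 1), (15011, -1), (15012, 1), (17011, -1), (17013, -1), (17015, -1), (18012, 1), (18013, 1), (18015, 1), (18017, 1), (20011, -1), (20013, -1), (20015, -1), (20018, -1)])

def ov_148 : List ℕ × ℕ × ℕ × List (ℕ × ℤ) := ([2, 1, 0], 0, 1, [(5000, 1), (5002, 1), (6001, -1), (9000, 1), (9009, 1), (14006, 1), (14009, 1), (14014, 1)])

def ov_149 : List ℕ × ℕ × ℕ × List (ℕ × ℤ) := ([7, 6, 4], 0, 1, [(11007, 1), (12006, -1), (12011, -1), (14004, 1), (14011, -1), (14012, -1), (16012, 1), (16014, 1), (16016, 1), (17011, -1), (17012, 1), (17014, 1), (17016, 1), (18012, 1), (18014, 1), (18016, 1), (18018, 1), (19017, -1), (19019, -1), (20011, -1), (20017, -1), (20020, -1)])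

def ov_150 : List ℕ × ℕ × ℕ × List (ℕ × ℤ) := ([12, 7, 2], 0, 1, [(13007, -1), (14012, 1), (14013, 1), (17007, -1), (17014, -1), (18007, -1), (18014, -1), (19007, -1), (19013, 1), (19017, 1), (20007, -1), (20017, 1), (20018, 1), (20019, 1)])

def ov_151 : List ℕ × ℕ × ℕ × List (ℕ × ℤ) := ([15, 2, 2], 0, 1, [(15002, 2), (15007, -1), (15010, -1), (16002, 1), (16016, 1), (17002, 1), (17016, 1), (17017, 1), (18002, 1), (18016, 1), (18018, 2), (19002, 1), (19010, -1), (19016, 1), (19018, 2), (19019, 2), (20017, 1), (20018, 1), (20019, 2), (20020, 2)])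

def ov_152 : List ℕ × ℕ × ℕ × List (ℕ × ℤ) := ([11, 5, 3], 0, 1, [(11009, -1), (14011, 1), (16003, 1), (16005, -1), (18005, -1), (18009, -1), (18016, 1), (19005, -1), (19009, -1), (19014, -1), (19016, 1), (19018, 1), (20005, -1), (20016, 1), (20018, 1)])

def ov_153 : List ℕ × ℕ × ℕ × List (ℕ × ℤ) := ([14, 8, 2], 0, 1, [(14012, -1), (17014, 1), (18002, 1), (18012, -1), (18014, 1), (18017, -1), (19002, 1), (19012, -1), (19018, -1), (20002, 1), (20012, -1), (20014, 1), (20017, -1), (20019, 1), (20020, 1)])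

def ov_154 : List ℕ × ℕ × ℕ × List (ℕ × ℤ) := ([4, 1, 0], 0, 1, [(5004, 1), (8001, -1), (8005, -1), (13000, 1), (13005, -1), (16005, -1), (18008, 1), (19013, -1), (19016, -1), (20008, 1), (20016, 1), (20019, 1)])

def ov_155 : List ℕ × ℕ × ℕ × List (ℕ × ℤ) := ([5, 3, 2], 0, 1, [(6005, 1), (7005, 1), (9002, 1), (9003, -1), (9005, 1), (14002, 1), (14003, -1), (14006, -1)])

def ov_156 : List ℕ × ℕ × ℕ × List (ℕ × ℤ) := ([7, 4, 0], 0, 1, [(8007, 1), (10004, -1), (10008, -1), (12000, 1), (12008, -1), (12010, -1), (13010, 1), (13012, 1), (13013, 1), (15008, -1), (17012, -1), (17015, -1), (19008, -1), (19012, 1), (19013, 1), (19017, 1), (20010, 1), (20012, 1), (20013, 1), (20015, 1), (20017, 1), (20020, 1)])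

def ov_157 : List ℕ × ℕ × ℕ × List (ℕ × ℤ) := ([10, 4, 0], 0, 1, [(10008, -1), (14004, -1), (14008, -1), (15000, 1), (15008, -1), (15014, -1), (16008, -1), (17014, -1), (17015, -1), (17016, -1), (18008, -1), (18015, -1), (18016, -1), (18018, -1), (19015, -1), (19016, -1), (19018, -1), (20008, -1), (20015, -1), (20016, -2), (20018, -2), (20020, -1)])

def ov_158 : List ℕ × ℕ × ℕ × List (ℕ × ℤ) := ([13, 6, 3], 0, 1, [(13009, -1), (14013, 1), (16006, -1), (16009, -1), (16014, -1), (18003, 1), (18009, -1), (18014, -1), (18016, -1), (19006, -1), (19009, -1), (19014, -1), (19018, 1), (20003, 1), (20006, -1), (20014, -1), (20018, -1), (20019, -1)])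

def ov_159 : List ℕ × ℕ × ℕ × List (ℕ × ℤ) := ([12, 9, 0], 0, 1, [(13009, -1), (14012, 1), (14013, 1), (15009, -1), (15014, -1), (17009, -1), (17014, -1), (19013, 1), (19014, -1), (19015, 1), (20000, 1), (20009, -1), (20013, -1), (20017, -1), (20019, -1)])

def ov_160 : List ℕ × ℕ × ℕ × List (ℕ × ℤ) := ([14, 8, 0], 0, 1, [(14011, -1), (14012, -1), (16014, 1), (17014, 1), (18000, 1), (18011, -1), (18012, -1), (18014, 1), (18016, -1), (18017, -1), (19000, 1), (19011, -1), (19012, -1), (19018, -1), (20000, 1), (20011, -1), (20018, -1)])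

def ov_161 : List ℕ × ℕ × ℕ × List (ℕ × ℤ) := ([15, 6, 3], 0, 1, [(15009, -1), (15014, -1), (17006, -1), (17009, -1), (17014, -1), (18003, 1), (18009, -1), (18014, -1), (18017, -1), (19003, 1), (19014, -1), (19017, -2), (19018, -1), (19019, -1), (20003, 1), (20009, -1), (20014, -1), (20017, -2), (20018, -1), (20019, -2)])

def ov_162 : List ℕ × ℕ × ℕ × List (ℕ × ℤ) := ([13, 3, 0], 0, 1, [(13007, -1), (16000, 1), (16003, -1), (18007, -1), (19000, 1), (19003, -1), (20000, 1), (20003, -1), (20007, -1), (20020, -1)])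

def ov_163 : List ℕ × ℕ × ℕ × List (ℕ × ℤ) := ([15, 5, 2], 0, 1, [(15009, -1), (15014, -1), (16005, -1), (16009, -1), (16014, -1), (17005, -1), (17009, -1), (17014, -1), (18005, -1), (18009, -1), (18014, -1), (19002, 1), (19005, -1), (19009, -1), (19016, -2), (19017, -2), (19018, -1), (19019, -1), (20009, -1), (20016, -1), (20017, -2), (20018, -2), (20019, -2), (20020, -1)])

def ov_164 : List ℕ × ℕ × ℕ × List (ℕ × ℤ) := ([4, 0, 0], 0, 1, [(4000, 2), (6004, 1), (7004, 1), (8000, 1), (8008, 1), (11007, 1), (11008, 2), (11011, 1), (12008, 2), (12011, 1), (12012, 1), (16008, 2), (16011, 1), (16012, 2), (16016, 1), (17008, 2), (17011, 1), (17012, 2), (17016, 1), (17017, 1), (18008, 2), (18011, 1), (18012, 2), (18016, 1), (18017, 1), (18018, 1)])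

def ov_165 : List ℕ × ℕ × ℕ × List (ℕ × ℤ) := ([6, 4, 0], 0, 1, [(8006, 1), (10004, -1), (10008, -1), (11000, 1), (11008, -1), (11010, -1), (13010, 1), (13011, 1), (13013, 1), (15008, -1), (17010, 1), (17013, 1), (18008, -1), (18015, -1), (19008, -1), (19011, 1), (19013, 1), (19017, 1), (19018, 1), (20008, -1), (20010, 1), (20011, 1), (20013, 1), (20018, 1)])

def ov_166 : List ℕ × ℕ × ℕ × List (ℕ × ℤ) := ([9, 8, 0], 0, 1, [(11009, 1), (12009, 1), (14008, -1), (14011, -1), (14012, -1), (16009, 1), (16014, 1), (17009, 1), (17014, 1), (18009, 1), (18011, -1), (19000, 1), (19014, -1), (19016, -1), (19017, -1), (19018, -3), (19019, -1), (20011, -1), (20016, 1), (20018, -1)])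

def ov_167 : List ℕ × ℕ × ℕ × List (ℕ × ℤ) := ([12, 5, 0], 0, 1, [(12009, -1), (13005, -1), (13009, -1), (14012, 1), (14013, 1), (15005, -1), (15009, -1), (15014, -1), (17005, -1), (17009, -1), (17014, -1), (19013, 1), (19014, -1), (19015, 1), (19017, -1), (19019, -1), (20000, 1), (20005, -1), (20009, -1), (20013, -2), (20017, -1), (20019, -1), (20020, -1)])

def ov_168 : List ℕ × ℕ × ℕ × List (ℕ × ℤ) := ([8, 6, 5], 0, 1, [(13005, 1), (13006, -1), (14008, 1), (14013, 2), (17005, 1), (17013, -1), (17014, -1), (18006, -1), (18013, 1), (19006, -1), (19013, 1), (19014, -1), (19018, 1), (19019, 1), (20005, 1), (20006, -1), (20013, 1), (20017, 1), (20019, 1), (20020, 1)])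

def ov_169 : List ℕ × ℕ × ℕ × List (ℕ × ℤ) := ([8, 7, 2], 0, 1, [(12007, -1), (13002, 1), (13012, -1), (14008, 1), (14012, 1), (14013, 1), (17007, -1), (17013, 1), (17014, -1), (18007, -1), (18012, 1), (18014, -1), (18017, 1), (18018, 1), (19012, 1), (19014, -1), (19019, 1), (20002, 1), (20007, -1), (20014, -1), (20017, 1), (20018, 1), (20020, 1)])

def ov_170 : List ℕ × ℕ × ℕ × List (ℕ × ℤ) := ([9, 4, 0], 0, 1, [(9008, -1), (13000, 1), (13008, -1), (14004, -1), (14008, -1), (14013, 1), (16008, -1), (18000, 1), (18014, -1), (18016, -2), (18018, -1), (19000, 1), (19008, -1), (19013, -1), (19014, -2), (19016, -1), (19018, -1), (20000, 1), (20008, -1), (20014, -1), (20016, -1), (20018, -1), (20019, 1), (20020, 1)])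

def ov_171 : List ℕ × ℕ × ℕ × List (ℕ × ℤ) := ([3, 2, 0], 0, 1, [(5000, 1), (6000, 1), (6003, 1), (6005, 1), (7000, 1), (7002, -1), (7005, 1), (7006, 1), (9000, 1), (9005, 1), (9006, -1), (9009, 1), (10007, 1), (10010, 1), (14000, 1), (14005, 1), (14006, 1), (14007, 3), (14009, 1), (14010, 2), (14014, 2)])

def ov_172 : List ℕ × ℕ × ℕ × List (ℕ × ℤ) := ([12, 3, 1], 0, 1, [(12009, -1), (13003, -1), (13009, -1), (15001, 1), (15009, -1), (15013, -1), (16001, 1), (16013, -1), (17001, 1), (17009, -1), (17013, -1), (17016, -1), (18001, 1), (18003, -1), (18013, -1), (18015, 1), (18018, 1), (19003, -1), (19015, 1), (19016, 1), (19017, -1), (19018, 1), (20013, -1), (20015, -1), (20017, -1), (20018, -1), (20019, -2), (20020, -1)])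

def ov_173 : List ℕ × ℕ × ℕ × List (ℕ × ℤ) := ([11, 5, 2], 0, 1, [(11009, -1), (13005, -1), (13009, -1), (14011, 1), (14013, 1), (15005, -1), (15009, -1), (15014, -1), (16002, 1), (16005, -1), (16013, -1), (16015, -1), (17005, -1), (17009, -1), (17014, -1), (17016, 1), (18005, -1), (18009, -1), (18013, -1), (18015, -1), (18016, 1), (18017, -1), (19014, -1), (19016, -1), (19017, -2), (19018, -1), (19019, -1), (20013, 1), (20015, -1), (20016, -1), (20017, -2), (20018, -1), (20019, -3)])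

def ov_174 : List ℕ × ℕ × ℕ × List (ℕ × ℤ) := ([8, 2, 1], 0, 1, [(8005, -1), (9008, 1), (12001, 1), (12005, -1), (12009, -1), (13009, -1), (13012, -1), (16002, -1), (16005, -1), (16009, -1), (16012, 1), (16013, 1), (17001, 1), (17005, -1), (17009, -1), (17016, -1), (18001, 1), (18009, -1), (18012, -1), (18016, -2), (19005, -1), (19009, -1), (19013, 1), (19017, -1), (19018, 2), (20001, 1), (20012, -1), (20013, -1), (20016, -2), (20018, -1), (20019, -1), (20020, -2)])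

def ov_175 : List ℕ × ℕ × ℕ × List (ℕ × ℤ) := ([4, 3, 1], 0, 1, [(8001, 1), (9004, 1), (9008, 1), (12001, 1), (12009, -1), (13001, 1), (13003, -1), (13013, 1), (16009, -1), (16012, 1), (16013, 2), (18001, 1), (18008, 1), (18009, -1), (18012, 1), (18013, 1), (18018, 1), (19001, 1), (19008, 1), (19013, 1), (19016, -1), (19018, 2), (19019, 1), (20001, 1), (20008, 1), (20012, 1), (20013, 2), (20016, -1), (20018, 2)])

def ov_176 : List ℕ × ℕ × ℕ × List (ℕ × ℤ) := ([11, 2, 0], 0, 1, [(11006, -1), (13000, 1), (13002, -1), (15000, 1), (15002, -1), (16000, 1), (16013, -1), (17000, 1), (17013, -1), (17015, -1), (18000, 1), (18002, -1), (18015, 1), (18016, 3), (18017, 1), (18018, -1), (19006, -1), (19018, -1), (20016, 1), (20017, 1)])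

def ov_177 : List ℕ × ℕ × ℕ × List (ℕ × ℤ) := ([6, 4, 3], 0, 1, [(8006, 1), (9004, -1), (9008, -1), (11003, 1), (11008, -1), (11009, -1), (12006, 1), (12009, 1), (12011, 1), (13006, 1), (13008, -1), (14004, -1), (14008, -1), (14011, 1), (14012, -1), (14013, -1), (16008, -1), (16012, -1), (16013, -1), (17012, 1), (17017, 1), (18006, 1), (18008, -1), (18013, -1), (18016, -1), (18018, -1), (19006, 1), (19008, -1), (19011, -1), (19012, -1), (19014, -2), (19016, -2), (19019, -1), (20006, 1), (20008, -1), (20009, 1), (20012, 1), (20014, -1), (20016, -2), (20017, 1), (20018, -1), (20020, 2)])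

def ov_178 : List ℕ × ℕ × ℕ × List (ℕ × ℤ) := ([7, 4, 2], 0, 1, [(8007, 1), (11007, 1), (12002, 1), (12007, 1), (12008, -1), (12011, -1), (13007, 1), (13011, 1), (13012, 1), (13013, 1), (14004, -1), (14008, -1), (14011, -1), (15007, 1), (15012, 1), (15013, 1), (15014, 1), (16008, -1), (16011, -1), (16012, 1), (16013, 1), (16014, 1), (17007, 1), (17012, 1), (17013, 1), (17015, 1), (17017, 1), (18007, 1), (18008, -1), (18012, 1), (18013, 1), (18015, 1), (18016, -1), (18017, 1), (19007, 1), (19011, -1), (19014, 1), (19015, 1), (19016, -1), (19017, 1), (19018, -1), (19019, 1), (20012, 2), (20013, 2), (20015, 1), (20017, 1), (20019, 1), (20020, 1)])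

def ov_179 : List ℕ × ℕ × ℕ × List (ℕ × ℤ) := ([4, 3, 3], 0, 1, [(4003, 2), (5004, 1), (6004, 1), (8003, 1), (8008, 1), (11008, 2), (11011, 1), (12003, 1), (12008, 1), (12011, 1), (12012, 1), (13003, 1), (13006, 1), (13008, 1), (13011, 1), (13012, 2), (13013, 2), (14004, 1), (14008, 2), (14011, 1), (14012, 2), (14013, 3), (15012, 1), (15015, 1), (16008, 2), (16011, 1), (16012, 1), (16013, 3), (16015, 1), (16016, 2), (17012, 1), (17015, 1), (17016, 1), (17017, 1), (18003, 1), (18006, 1), (18008, 2), (18013, 1), (18016, 3), (18018, 4), (19003, 1), (19008, 1), (19012, 2), (19015, 1), (19016, 3), (19017, 1), (19018, 3), (19019, 4), (20003, 1), (20006, 1), (20008, 1), (20011, 2), (20014, 1), (20015, 1), (20016, 9), (20017, 1), (20018, 6), (20019, 4), (20020, 7)])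

def ov_180 : List ℕ × ℕ × ℕ × List (ℕ × ℤ) := ([7, 4, 3], 0, 1, [(8007, 1), (9004, -1), (9008, -1), (10004, -1), (10008, -1), (12003, 1), (12007, 1), (12008, -1), (13007, 1), (13008, -1), (13010, -1), (14004, -1), (14008, -1), (14013, -1), (15008, -1), (15012, -1), (15013, -1), (15014, -1), (16008, -1), (16012, -1), (16013, -1), (17012, -2), (17013, -2), (17014, -1), (17015, -1), (17016, -1), (18007, 1), (18009, 1), (18013, -1), (18015, -1), (18016, -1), (18017, 1), (18018, -1), (19007, 1), (19008, -1), (19009, 1), (19010, -1), (19012, -2), (19013, -2), (19014, -2), (19015, -1), (19016, -1), (19017, -1), (19019, -2), (20007, 1), (20008, -1), (20009, 1), (20012, 1), (20015, -2), (20016, -3), (20017, -1), (20018, -3), (20019, -3), (20020, -1)])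

def fr_0 : ℕ × List ℕ × List ℕ × List (ℕ × ℤ) := (0, [3, 1], [1, 3, 12], [(9004, -1), (11001, 1), (11009, 1), (13004, -1), (13009, 1), (13011, 1), (14004, -1), (14011, -1), (15001, 1), (15009, 1), (15013, 1), (15014, 1), (16001, 1), (16009, 1), (16011, -1), (16013, 1), (16014, 1), (18001, 1), (18013, 1), (18015, 1), (19001, 1), (19004, -1), (20009, 1), (20011, -1), (20013, -1), (20014, -1), (20015, 1), (20016, 1), (20018, 2), (20019, 2), (20020, 1), (1000012, -1)])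

def fr_1 : ℕ × List ℕ × List ℕ × List (ℕ × ℤ) := (0, [4, 1], [1, 4], [(9001, 1), (9005, -1), (13005, -1), (13009, -1), (14005, -1), (14009, -1), (19001, 1), (19005, -1), (19013, 1), (19014, 1), (20013, 1), (20019, -1)])

def fr_2 : ℕ × List ℕ × List ℕ × List (ℕ × ℤ) := (0, [6, 4], [4, 6], [(7005, -1), (10005, 1), (10009, 1), (19010, -1), (20005, 1), (20009, 1), (20019, 1)])

def fr_3 : ℕ × List ℕ × List ℕ × List (ℕ × ℤ) := (0, [7, 1], [1, 7, 15], [(8001, -1), (11001, 1), (11009, 1), (12001, 1), (12009, 1), (13001, 1), (13011, -1), (13012, -1), (14011, -1), (14012, -1), (14013, -2), (15001, 1), (15009, 1), (15014, 1), (16012, 1), (16013, 2), (16015, 1), (16016, 1), (18012, 1), (18013, 2), (18014, 1), (18015, 2), (18016, 1), (18018, 1), (19001, 1), (19009, 1), (19011, -1), (19012, -1), (19015, 1), (19016, 1), (19019, 1), (20013, 2), (20014, 1), (20015, 1), (20016, 1), (20018, 2), (20019, 3), (1000015, -1)])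

def fr_4 : ℕ × List ℕ × List ℕ × List (ℕ × ℤ) := (0, [7, 3], [3, 7], [(8004, -1), (11004, 1), (12004, 1), (12011, 1), (13004, 1), (13011, 1), (15004, 1), (15012, -1), (15013, -1), (16011, -1), (16012, -1), (16013, -1), (16015, -1), (18011, -1), (18012, -1), (18013, -1), (18015, -1), (19004, 1), (19012, -1), (19013, -1), (19016, 1), (19018, 1)])

def fr_5 : ℕ × List ℕ × List ℕ × List (ℕ × ℤ) := (0, [8, 7], [7, 8, 18], [(9008, -1), (14011, 1), (14012, 1), (14013, 1), (15014, -1), (19011, 1), (19012, 1), (19014, -1), (20011, 1), (20015, 1), (1000018, -1)])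

def fr_6 : ℕ × List ℕ × List ℕ × List (ℕ × ℤ) := (0, [9, 3], [3, 9, 14], [(5004, 1), (7004, 1), (10004, -1), (11005, -1), (11007, -1), (12011, 1), (13007, 1), (13011, 1), (13012, 1), (15005, -1), (15007, -1), (15012, -1), (15013, -1), (16005, -1), (16012, -1), (16013, -1), (16015, -2), (16016, -1), (17012, -1), (17013, -1), (17015, -1), (17017, -1), (18005, -1), (18011, 1), (18012, 1), (18016, 1), (19004, 1), (19005, -1), (19011, 1), (19015, 1), (19018, -1), (19019, -1), (20004, 1), (20011, 1), (20012, -1), (20013, -1), (20015, 1), (20016, 1), (20017, -1), (20018, 1), (1000014, -1)])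

def fr_7 : ℕ × List ℕ × List ℕ × List (ℕ × ℤ) := (0, [9, 5], [5, 9], [(5000, 1), (5002, 1), (5003, 1), (6005, -1), (7000, 1), (7002, 1), (7003, 1), (7005, 1), (7006, 1), (9002, 1), (9007, 3), (9009, 2), (10002, 1), (10003, 1), (10006, -1), (10010, 1), (14002, 1), (14005, -1), (14007, 3), (14009, 1), (14010, 2), (14014, 3), (19000, 1), (19002, 1), (19003, 1), (19006, 1), (19007, -1), (19014, 1), (20000, 1), (20002, 1), (20006, 1), (20007, -1), (20014, 1), (20020, 1)])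

def fr_8 : ℕ × List ℕ × List ℕ × List (ℕ × ℤ) := (0, [9, 7], [7, 9, 16], [(10008, -1), (11005, -1), (11007, -1), (12005, -1), (12007, -1), (13005, -1), (13007, -1), (15005, -1), (15007, -1), (16007, -1), (16012, -2), (16013, -2), (16015, -2), (16016, -1), (17012, -1), (17013, -1), (17015, -1), (17016, -1), (17017, -1), (18012, -1), (18013, -1), (18015, -1), (18016, -1), (18017, -1), (18018, -1), (19005, -1), (19011, 1), (19012, 1), (19013, 1), (19015, 1), (19016, -1), (19017, -1), (19018, -1), (19019, -2), (20011, 1), (20012, 1), (20015, 1), (20020, -2), (1000016, -1)])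

def fr_9 : ℕ × List ℕ × List ℕ × List (ℕ × ℤ) := (0, [10, 2], [2, 10, 12, 14, 15, 16, 17], [(8002, 1), (8005, 1), (9008, -1), (10008, -1), (11002, -1), (12002, 1), (13002, 1), (13008, -1), (13009, 1), (13010, 1), (13012, -1), (15002, 1), (15005, 1), (15009, 1), (15010, 1), (15012, -1), (15013, -1), (16005, 1), (16009, 1), (16010, 1), (16012, -1), (16013, -1), (17005, 1), (17008, -1), (17009, 1), (17010, 1), (17012, 1), (18002, 1), (18005, 1), (18013, -1), (18015, 2), (18016, 1), (18017, 2), (18018, 1), (19008, -1), (19009, 1), (19010, -1), (19012, -1), (19013, -1), (19015, 2), (19016, 2), (19017, -1), (19018, 1), (19019, 3), (20002, 1), (20005, 1), (20008, -1), (20009, 1), (20012, -1), (20013, -1), (20015, 1), (20016, 2), (20017, 5), (20018, 1), (20019, 7), (20020, 2), (1000012, -1), (1000014, -1), (1000015, -1), (1000016, -1), (1000017, -1)])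

def fr_10 : ℕ × List ℕ × List ℕ × List (ℕ × ℤ) := (0, [10, 8], [8, 10, 17], [(11009, -1), (14008, -1), (14012, -1), (14013, -1), (15014, 1), (18012, -1), (18013, -1), (18014, 1), (18015, -1), (18018, -1), (19008, -1), (19013, -1), (19015, -1), (19018, -3), (19019, -1), (20008, -1), (20014, 1), (20015, -1), (20018, -1), (20019, -2), (20020, -1), (1000017, -1)])

def fr_11 : ℕ × List ℕ × List ℕ × List (ℕ × ℤ) := (0, [11, 2], [2, 11, 12, 16, 17, 18, 19], [(12002, -1), (15002, 1), (15005, 1), (15009, 1), (15010, 1), (15013, 1), (16002, 1), (17005, 1), (17009, 1), (17010, 1), (17013, 1), (17015, -1), (17016, -1), (18016, 1), (19010, 1), (19013, 1), (19015, -1), (19016, -1), (19017, 3), (19019, 1), (20005, 1), (20009, 1), (20010, 1), (20013, 1), (20015, -1), (20016, -2), (20017, 1), (20018, -1), (20020, -2), (1000012, -1), (1000016, -1), (1000017, -1), (1000018, -1), (1000019, -1)])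

def fr_12 : ℕ × List ℕ × List ℕ × List (ℕ × ℤ) := (0, [11, 4], [4, 11, 19], [(12005, -1), (15005, 1), (15009, 1), (16005, 1), (16009, 1), (19009, 1), (19015, -1), (19016, 1), (19019, 1), (20019, 2), (1000019, -1)])

def fr_13 : ℕ × List ℕ × List ℕ × List (ℕ × ℤ) := (0, [11, 7], [7, 11], [(12008, -1), (15011, 1), (15012, 1), (15013, 1), (16011, 1), (16012, 1), (16013, 1), (16015, 1), (19015, -1), (19016, -1)])

def fr_14 : ℕ × List ℕ × List ℕ × List (ℕ × ℤ) := (0, [13, 2], [2, 13], [(9002, 1), (9005, 1), (10009, -1), (13009, -1), (14002, -1), (17009, -1), (19009, -1), (20009, -1)])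

def fr_15 : ℕ × List ℕ × List ℕ × List (ℕ × ℤ) := (0, [15, 1], [1, 15], [(13001, 1), (13009, 1), (14013, -1), (16001, -1), (18001, 1), (18009, 1), (18013, 1), (18014, 1), (19013, -1), (19018, -1), (20001, 1), (20018, -1), (20019, -1)])

def fr_16 : ℕ × List ℕ × List ℕ × List (ℕ × ℤ) := (1, [4, 0], [0, 4], [(1000, 1), (2001, -1), (5001, -1), (5002, -1), (6001, -1), (6005, -1), (9000, 1), (9001, -1), (9002, -1), (9005, -1), (9006, -1), (9009, -1), (11001, -1), (11005, -1), (11009, -1), (13001, -1), (13005, -1), (13009, -1), (14002, -1), (14005, -1), (14009, -1), (14011, -2), (14013, -2), (14014, -1), (16005, -1), (16013, -2), (16014, -1), (16016, -1), (17001, -1), (17005, -1), (17009, -1), (18000, 1), (18002, 1), (18006, 1), (18011, 1), (18018, -1), (19002, 1), (19005, -1), (19018, -1), (20002, 1), (20011, 1), (20014, -1), (20016, -5), (20017, -1), (20018, -3), (20019, -1), (20020, -1)])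

def fr_17 : ℕ × List ℕ × List ℕ × List (ℕ × ℤ) := (1, [6, 4], [4, 6], [(1000, -1), (2001, 1), (3001, 1), (5000, -1), (5001, 1), (5003, 1), (7005, -1), (8001, 1), (8005, 1), (9000, -1), (9001, 1), (9003, 1), (9005, 1), (9008, 1), (9009, 1), (11001, 1), (11005, 1), (11009, 1), (12001, 1), (12005, 1), (12009, 1), (13001, 1), (13009, 1), (13011, 1), (13012, 1), (13013, 1), (14001, 1), (14005, 1), (14009, 1), (15001, 1), (15005, 1), (15009, 1), (16005, 1), (16009, 1), (16011, 1), (16012, 1), (16014, 1), (16015, 1), (16016, 2), (18000, -1), (18001, -1), (18002, -1), (18003, -1), (18005, -1), (18008, -1), (18012, 1), (18013, 1), (18014, 2), (18015, 2), (18016, 3), (18018, 2), (19002, -1), (19009, 1), (19011, 2), (19012, 2), (19013, 1), (19014, 1), (19015, 1), (19016, 3), (19018, 3), (19019, 2), (20001, -1), (20002, -1), (20003, -1), (20009, 1), (20011, 2), (20012, 1), (20013, 1), (20014, 1), (20015, 1), (20016, 2), (20018,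 1)])

def fr_18 : ℕ × List ℕ × List ℕ × List (ℕ × ℤ) := (1, [7, 4], [4, 7, 12, 17, 18, 19], [(8001, 1), (9008, -1), (13001, 1), (13005, 1), (16001, 1), (18008, -1), (18009, 1), (18013, -1), (18016, -2), (19009, 1), (19013, -1), (19016, -2), (19018, -1), (19019, -1), (20001, 1), (20005, 1), (20009, 1), (20016, -1), (20019, -2), (1001012, -1), (1001017, -1), (1001018, -1), (1001019, -1)])

def fr_19 : ℕ × List ℕ × List ℕ × List (ℕ × ℤ) := (1, [8, 3], [3, 8, 12, 17, 18, 19], [(9008, 1), (12009, -1), (13004, 1), (13009, -1), (14004, 1), (14008, 1), (14012, 1), (16004, 1), (16009, -1), (16013, -1), (16014, -1), (18004, 1), (18008, 1), (18014, 1), (18018, 1), (19008, 1), (19012, 1), (19013, 1), (19014, 2), (19016, 2), (19018, 3), (19019, 1), (20004, 1), (20009, -1), (20012, 1), (20016, -1), (20019, -1), (20020, -1), (1001012, -1), (1001017, -1), (1001018, -1), (1001019, -1)])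

def fr_20 : ℕ × List ℕ × List ℕ × List (ℕ × ℤ) := (1, [8, 7], [7, 8, 18], [(13008, 1), (13009, -1), (14008, 1), (14013, 1), (16008, 1), (16009, -1), (16014, -1), (18008, 1), (18016, 1), (19013, 1), (19014, 1), (19018, 1), (19019, 1), (20008, 1), (20009, -1), (20016, 3), (1001018, -1)])

def fr_21 : ℕ × List ℕ × List ℕ × List (ℕ × ℤ) := (1, [10, 8], [8, 10, 17], [(11009, -1), (15009, 1), (15013, 1), (15014, 1), (16009, 1), (16013, 1), (16014, 1), (16015, -1), (17009, 1), (17013, 1), (17014, 1), (17016, 1), (18009, 1), (18013, 1), (18014, 1), (18015, -1), (18017, -1), (19013, 1), (19014, 1), (19016, 2), (19017, 1), (19018, 2), (20009, 1), (20015, -1), (20016, 1), (20017, 1), (20018, 2), (20019, 1), (20020, 1), (1001017, -1)])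

def fr_22 : ℕ × List ℕ × List ℕ × List (ℕ × ℤ) := (1, [11, 4], [4, 11, 19], [(8001, 1), (8005, 1), (9008, -1), (11001, 1), (11005, 1), (11009, 1), (12001, 1), (12009, 1), (13005, 1), (13011, 1), (13012, 1), (13013, 1), (15001, 1), (15005, 1), (15009, 1), (16001, 1), (16009, 1), (16011, 1), (16012, 1), (16013, 1), (16015, 1), (16016, 2), (18008, -1), (18009, 1), (18012, 1), (18013, 1), (18015, 2), (18016, 2), (18018, 2), (19001, 1), (19005, 1), (19009, 1), (19013, 1), (19015, 1), (19016, 2), (19018, 1), (19019, 2), (20009, 1), (20011, 1), (20012, 2), (20013, 1), (20015, 3), (20016, 4), (20018, 3), (20019, 6), (20020, 3), (1001019, -1)])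

def fr_23 : ℕ × List ℕ × List ℕ × List (ℕ × ℤ) := (1, [14, 0], [0, 14, 17, 19], [(11000, 1), (11002, 1), (11005, 1), (11006, 1), (11009, 1), (13002, 1), (13011, -1), (13013, 1), (15000, -1), (15013, 1), (15015, 1), (16002, -1), (16006, 1), (16013, 1), (16015, 1), (16016, 1), (17002, -1), (17011, -1), (17013, 1), (17015, 1), (18000, 1), (18005, 1), (18006, 1), (18011, 1), (18013, 2), (18017, 1), (18018, 2), (19005, 1), (19006, 1), (19009, 1), (19011, 1), (19013, 1), (19015, 1), (19017, 2), (19019, -1), (20002, 1), (20005, 1), (20009, 1), (20011, 1), (20013, 1), (20015, 1), (20016, 1), (20017, 1), (20019, 3), (20020, 1), (1001017, -1), (1001019, -1)])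

def fr_24 : ℕ × List ℕ × List ℕ × List (ℕ × ℤ) := (1, [14, 6], [6, 14, 18], [(11000, 1), (11001, 1), (11002, 1), (11003, 1), (11005, 1), (11008, 1), (11009, 1), (12011, -1), (13001, 1), (13002, 1), (13011, -1), (13013, 1), (14011, -1), (15001, 1), (15002, 1), (15007, -1), (15011, -1), (15013, 1), (15015, 1), (16005, 1), (16013, 2), (16015, 2), (16016, 3), (17013, 1), (17015, 1), (17016, 1), (17017, 1), (18000, 1), (18002, 1), (18005, 1), (18008, 1), (18009, 1), (18013, 1), (18018, 3), (19001, 1), (19003, 1), (19011, -1), (19015, 1), (19016, 1), (19017, 1), (19018, -1), (19019, 3), (20001, 1), (20002, 1), (20003, 1), (20005, 1), (20013, 1), (20015, 1), (20016, 2), (20017, 1), (20018, 1), (20019, 4), (20020, 3), (1001018, -1)])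

def fr_25 : ℕ × List ℕ × List ℕ × List (ℕ × ℤ) := (2, [3, 1], [1, 3, 12], [(4001, -1), (8001, 1), (8005, 1), (11001, 1), (11005, 1), (13008, -1), (14008, -1), (14011, -1), (14013, -1), (15001, 1), (15005, 1), (15014, 1), (16001, 1), (16011, 1), (16014, 1), (16015, 1), (16016, 2), (17001, 1), (17005, 1), (17014, 1), (18008, -1), (18011, 1), (18013, 1), (18014, 1), (18015, 1), (18016, 2), (18017, 2), (18018, 1), (19001, 1), (19005, 1), (19016, 1), (19019, 2), (20013, 1), (20014, 1), (20015, 1), (20016, 3), (20017, 2), (20018, 2), (20019, 5), (1002012, -1)])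

def fr_26 : ℕ × List ℕ × List ℕ × List (ℕ × ℤ) := (2, [6, 3], [3, 6, 11], [(7004, -1), (8000, -1), (8001, -1), (8003, -1), (8006, -1), (8007, -1), (9008, 1), (11000, -1), (11006, -1), (11007, -1), (11009, -1), (11011, -1), (12001, -1), (12003, -1), (12006, -1), (12007, -1), (12009, -1), (12011, -1), (12012, -1), (13001, -1), (13006, -1), (13009, -1), (13011, -2), (13012, -4), (13013, -3), (15000, -1), (15008, 1), (15011, 1), (15012, -2), (15013, -1), (15015, -2), (16000, -1), (16001, -1), (16007, -1), (16011, -1), (16012, -4), (16013, -4), (16015, -3), (16016, -4), (17000, -1), (17001, -1), (17003, -1), (17006, -1), (17007, -1), (17011, -2), (17012, -3), (17013, -1), (17015, -3), (17016, -4), (17017, -4), (18001, -1), (18003, -1), (18006, -1), (18007, -1), (18011, -1), (18012, -4), (18013, -5), (18015, -3), (18016, -3), (18017, -6), (18018, -6), (19000, -1), (19006, -1), (19007, -1), (19008, 1), (19009, -1), (19012,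 -1), (19013, -2), (19015, -1), (19016, -3), (19017, -6), (19018, -6), (19019, -4), (20003, -1), (20009, -1), (20011, -2), (20012, -3), (20013, -1), (20015, -1), (20016, -4), (20017, -5), (20018, -6), (20019, -5), (20020, -5), (1002011, -1)])

def fr_27 : ℕ × List ℕ × List ℕ × List (ℕ × ℤ) := (2, [7, 0], [0, 7, 11, 12, 16, 17], [(4001, 1), (4002, 1), (4003, 1), (5004, -1), (7004, -1), (8000, -1), (8008, 1), (9004, -1), (11001, 1), (11002, 1), (11003, -1), (11005, 1), (11007, 1), (11009, 1), (12004, -1), (12008, 1), (12009, -1), (12011, 2), (13001, 1), (13007, -1), (13008, 1), (13009, -1), (13011, 2), (13012, -3), (15013, -1), (16001, 1), (16004, -1), (16005, 1), (16009, 1), (16011, -2), (16012, 2), (16013, -2), (17003, -1), (17009, 1), (17012, 1), (17013, -1), (17017, 1), (18001, 1), (18002, 1), (18004, -1), (18007, -1), (18008, 1), (18011, 1), (18012, -1), (18013, -2), (18015, 1), (18016, 2), (18017, 2), (18018, -1),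 (19008, 1), (19012, -2), (19015, 1), (19016, -3), (19017, 1), (19018, -3), (19019, -1), (20001, 1), (20002, 1), (20007, -1), (20008, 1), (20013, -2), (20016, 1), (20017, 1), (20018, -1), (20019, -2), (20020, -1), (1002011, -1), (1002012, -1), (1002016, -1), (1002017, -1)])

def fr_28 : ℕ × List ℕ × List ℕ × List (ℕ × ℤ) := (2, [7, 6], [6, 7, 12, 19], [(4000, 1), (4001, 1), (4003, 1), (6004, -1), (7004, -1), (8001, 1), (8003, 1), (8007, -1), (8008, 1), (9004, -1), (11000, 1), (11001, 1), (11003, 1), (11007, -1), (11009, -1), (12006, 1), (12007, 1), (12008, 1), (12011, 1), (13000, 1), (13003, 1), (13006, 1), (13007, 1), (13008, 2), (13009, 1), (13011, 1), (13013, 1), (15001, 1), (15003, 1), (15004, -1), (15015, 1), (16000, 1), (16003, 1), (16009, -1), (16011, 1), (16012, -1), (16013, -2), (16016, 3), (17007, 1), (17012, -1), (17013, -1), (17015, 1), (17016, 1), (17017, 1), (18000, 1), (18001, 1), (18006, 1), (18008, 1),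 (18009, -1), (18011, 1), (18012, -2), (18013, 1), (18016, 2), (18018, 2), (19003, 1), (19004, -1), (19006, 1), (19008, 1), (19009, 1), (19011, 1), (19013, 3), (19015, 1), (19016, 3), (19017, 1), (19018, 5), (19019, 4), (20000, 1), (20001, 1), (20003, 1), (20007, 1), (20008, 1), (20009, 1), (20013, 3), (20015, 1), (20016, 2), (20017, 2), (20018, 4), (20019, 5), (20020, 4), (1002012, -1), (1002019, -1)])

def fr_29 : ℕ × List ℕ × List ℕ × List (ℕ × ℤ) := (2, [8, 1], [1, 8], [(5001, 1), (9005, 1), (13005, -1), (13009, -1), (14001, 1), (14009, -1), (14013, 1), (16001, 1), (16005, 1), (16013, 1), (16014, 1), (18001, 1), (18009, -1), (18013, 1), (18016, -1), (19001, 1), (19005, 1), (19013, 1), (19014, 1), (19018, 1), (20001, 1), (20005, 1), (20016, 1), (20018, 1), (20019, 3), (20020, 1)])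

def fr_30 : ℕ × List ℕ × List ℕ × List (ℕ × ℤ) := (2, [9, 7], [7, 9, 16], [(5004, 1), (10004, 1), (10008, -1), (11005, -1), (11010, -1), (13004, 1), (13005, -1), (14004, 1), (14011, 1), (15004, 1), (15014, 1), (16004, 1), (16005, -1), (16013, -2), (18005, -1), (18014, 1), (18015, 1), (18016, 1), (19011, 1), (19013, 1), (19014, 1), (19015, 2), (19016, 3), (19018, 3), (19019, -1), (20005, -1), (20013, 1), (20014, 1), (20015, -1), (20016, -2), (20018, -2), (20019, 1), (1002016, -1)])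

def fr_31 : ℕ × List ℕ × List ℕ × List (ℕ × ℤ) := (2, [10, 8], [8, 10, 17], [(11005, 1), (13005, 1), (13009, 1), (14011, -1), (14013, -1), (15005, 1), (15009, 1), (15014, 1), (16005, 1), (16011, -1), (17005, 1), (17009, 1), (17014, 1), (18005, 1), (18009, 1), (18011, -1), (18016, -1), (19011, -1), (19013, -1), (19014, 1), (19015, -1), (19017, 1), (19019, 1), (20005, 1), (20009, 1), (20011, -1), (20014, 1), (20016, -2), (20017, 1), (20018, -2), (20019, 1), (1002017, -1)])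

def fr_32 : ℕ × List ℕ × List ℕ × List (ℕ × ℤ) := (2, [11, 1], [1, 11, 12, 17, 18], [(12005, 1), (13001, 1), (13012, -1), (14012, -1), (14013, -2), (15001, 1), (15005, 1), (15014, 1), (16001, 1), (16013, -1), (17001, 1), (17005, 1), (17014, 1), (17016, -1), (18001, 1), (18012, -1), (18017, -1), (18018, 1), (19001, 1), (19019, 1), (20014, 1), (20015, -1), (20016, -3), (20018, -3), (1002012, -1), (1002017, -1), (1002018, -1)])

def fr_33 : ℕ × List ℕ × List ℕ × List (ℕ × ℤ) := (2, [11, 4], [4, 11, 19], [(13005, 1), (13012, -1), (15005, 1), (15013, 1), (16005, 1), (16013, 1), (17005, 1), (17013, 1), (18005, 1), (18012, -1), (18015, -1), (18016, -1), (18017, -1), (19005, 1), (19013, 1), (19016, 1), (19017, 1), (19018, 1), (19019, 1), (20013, 2), (20018, 1), (20019, 1), (20020, 1), (1002019, -1)])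

def fr_34 : ℕ × List ℕ × List ℕ × List (ℕ × ℤ) := (2, [11, 9], [9, 11, 18], [(12005, 1), (13005, 1), (13010, 1), (13012, -1), (14012, -1), (14013, -1), (15005, 1), (15010, 1), (15012, -1), (15014, 1), (16005, 1), (16010, 1), (16012, -1), (16014, 1), (17005, 1), (17010, 1), (17013, 1), (17014, 1), (17015, 1), (17016, 1), (18005, 1), (18010, 1), (18013, 1), (18014, 1), (18015, 1), (18016, 1), (19005, 1), (19010, 1), (19013, 1), (19014, 1), (19015, -1), (19018, -1), (19019, 1), (20010, 1), (20013, 1), (20015, -1), (20017, 1), (20018, 1), (20020, 2), (1002018, -1)])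

def fr_35 : ℕ × List ℕ × List ℕ × List (ℕ × ℤ) := (2, [14, 3], [3, 14], [(13008, 1), (13011, 1), (15004, -1), (15013, -1), (16008, 1), (16011, 1), (16013, -1), (16015, 1), (17008, 1), (17011, 1), (17013, -1), (17015, 1), (18008, 1), (18011, 1), (18015, 1), (18016, 1), (18017, 1), (19013, -1), (19016, -1), (19017, -1), (19018, -1)])

def fr_36 : ℕ × List ℕ × List ℕ × List (ℕ × ℤ) := (2, [15, 1], [1, 15], [(16005, 1), (16013, 1), (16014, 1), (18016, -1)])

def fr_37 : ℕ × List ℕ × List ℕ × List (ℕ × ℤ) := (3, [5, 0], [0, 5, 9], [(5002, 1), (5003, 1), (6000, -1), (8005, -1), (9002, 1), (9008, 1), (9009, 1), (11002, 1), (11003, 1), (11005, -1), (11008, 1), (11009, -1), (13003, 1), (13008, 1), (13009, -1), (13011, -1), (14002, 1), (14008, 1), (14009, 1), (14011, 3), (14013, 2), (14014, 1), (15002, 1), (15014, 1), (16002, 1), (16003, 1), (16008, 1), (16009, -1), (16013, 1), (16016, 1), (17005, -1), (17009, -1), (17011, -1),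 (17015, -1), (17016, -1), (17017, 1), (18002, 1), (18005, -1), (18011, -1), (18016, 1), (18018, 2), (19003, 1), (19005, -1), (19008, 1), (19009, -1), (19013, 2), (19015, -2), (19016, -1), (19018, 2), (19019, 2), (20003, 1), (20011, -1), (20013, 1), (20014, -1), (20015, -1), (20016, 5), (20018, 4), (20019, 4), (20020, 4), (1003009, -1)])

def fr_38 : ℕ × List ℕ × List ℕ × List (ℕ × ℤ) := (3, [6, 0], [0, 6, 9], [(5002, 1), (5003, 1), (7000, -1), (8005, -1), (9002, 1), (9008, 1), (9009, 1), (11005, -1), (11009, -1), (12002, 1), (12003, 1), (12008, 1), (12011, 1), (13003, 1), (13008, 1), (13009, -1), (13012, -1), (14002, 1), (14008, 1), (14009, 1), (14011, 1), (14012, 2), (14013, 2), (14014, 1), (15008, 1), (15011, 1), (15013, 1), (16002, 1), (16003, 1), (16008, 1), (16009, -1), (16011, 1), (16012, -1), (16013, 1), (16014, -1), (17002, 1), (17005, -1), (17008, 1), (17009, -1), (17011, 1), (17012, -1), (17013, 1), (17016,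 2), (17017, 1), (18002, 1), (18005, -1), (18012, -1), (18015, 1), (18016, 1), (18017, -1), (18018, 2), (19003, 1), (19005, -1), (19008, 1), (19009, -1), (19013, 3), (19016, -1), (19017, 2), (19018, 4), (19019, 3), (20003, 1), (20012, -1), (20014, -1), (20015, 2), (20016, 1), (20017, 2), (20018, 2), (20019, 4), (20020, 3), (1003009, -1)])

def fr_39 : ℕ × List ℕ × List ℕ × List (ℕ × ℤ) := (3, [6, 4], [4, 6], [(7005, -1), (12005, 1), (12009, 1), (14012, -1), (16012, -1), (17005, 1), (17009, 1), (17014, 1), (17016, 1), (18012, -1), (18017, -1), (19005, -1), (19012, -1), (19014, 1), (19018, 1), (20005, -1), (20012, -1), (20014, 1), (20016, 1), (20018, -1), (20019, -1), (20020, 1)])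

def fr_40 : ℕ × List ℕ × List ℕ × List (ℕ × ℤ) := (3, [10, 7], [7, 10], [(5000, 1), (5002, 1), (5003, 1), (6000, 1), (6002, 1), (6003, 1), (6005, -1), (9002, 1), (9006, 3), (9009, 2), (10000, 1), (10003, 1), (10005, -1), (10009, 1), (10010, 1), (11008, -1), (14003, 1), (14005, -1), (14006, 4), (14009, 2), (14010, 1), (14014, 2), (17000, 1), (17002, 1), (17003, 1), (17006, 1), (17010, 1), (17014, 1), (18000, 1), (18002, 1), (18005, -1), (18014, 1), (18017, -1), (18018, 1), (19000, 1), (19010, 1), (19014, 1), (19018, 3), (19019, 2), (20000, 1), (20006, -1), (20010, 1), (20014, 1), (20018, 2), (20019, 2), (20020, 1)])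

def fr_41 : ℕ × List ℕ × List ℕ × List (ℕ × ℤ) := (3, [11, 10], [10, 11], [(6005, -1), (7005, 1), (7006, 1), (10005, -1), (10007, -1), (12011, -1), (14007, -1), (17006, 1), (17007, -1), (17010, 1), (18005, -1), (18007, -1), (18017, -1), (19010, 1), (19018, -1), (20005, -1), (20017, -1), (20019, -2), (20020, -1)])

def fr_42 : ℕ × List ℕ × List ℕ × List (ℕ × ℤ) := (3, [12, 1], [1, 12], [(9001, 1), (9005, 1), (13001, -1), (13009, -1), (14009, -1), (18009, -1)])

def fr_43 : ℕ × List ℕ × List ℕ × List (ℕ × ℤ) := (4, [4, 2], [2, 4, 13], [(2000, -1), (2001, -1), (3000, -1), (3001, -1), (3002, 1), (5002, -1), (5003, -2), (6000, -1), (6002, 1), (6003, -1), (7000, -1), (7002, 1), (9001, -1), (9003, -1), (9006, -1), (9007, -2), (9009, -3), (10000, -1), (10001, -1), (10009, -1), (10010, -1), (14000, -1), (14001, -1), (14003, -1), (14006, -1), (14009, -2), (14010, -2), (14014, -2), (1004013, -1)])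

def fr_44 : ℕ × List ℕ × List ℕ × List (ℕ × ℤ) := (4, [5, 4], [4, 5, 13], [(6000, -1), (6001, 1), (6003, 1), (6005, -1), (7000, -1), (7001, -1), (7003, -1), (9000, 1), (9001, 1), (9006, 2), (9007, -2), (9009, -1), (10000, 1), (10001, -1), (10003, -1), (10006, -1), (10010, -2), (14000, 1), (14006, 2), (14007, -1), (14010, -4), (14014, 1), (1004013, -1)])

def fr_45 : ℕ × List ℕ × List ℕ × List (ℕ × ℤ) := (4, [10, 7], [7, 10], [(12011, -1), (16008, 1), (16012, 1), (17008, 1), (17011, 1), (17012, 1), (17016, 1), (18008, 1), (18012, 1), (18017, -1), (20008, 1), (20011, 1), (20012, 1), (20016, 1), (20018, 1)])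

def fr_46 : ℕ × List ℕ × List ℕ × List (ℕ × ℤ) := (4, [11, 5], [5, 11, 16, 18, 19], [(12006, -1), (15000, 1), (15001, 1), (15003, 1), (15009, 1), (15010, 1), (15014, 1), (16000, 1), (16003, 1), (16009, 1), (16010, 1), (16014, 1), (16016, 1), (17000, 1), (17009, 1), (17010, 1), (17014, 1), (17016, 2), (17017, 1), (18001, 1), (18009, 1), (18010, 1), (18014, 1), (18017, 1), (18018, 1), (19001, 1), (19010, 1), (19014, 1), (19016, 2), (19017, 2), (19018, 3), (20010, 1), (20016, 1), (20017, 3), (20018, 3), (20019, 3), (20020, 2), (1004016, -1), (1004018, -1), (1004019, -1)])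

def fr_47 : ℕ × List ℕ × List ℕ × List (ℕ × ℤ) := (4, [11, 7], [7, 11], [(12008, -1), (15008, 1), (15011, 1), (15012, 1), (16008, 1), (16011, 1), (16012, 1), (16015, -1), (17008, 1), (17011, 1), (17012, 1), (17016, 1), (18015, -1), (18016, -1), (18017, -1)])

def fr_48 : ℕ × List ℕ × List ℕ × List (ℕ × ℤ) := (4, [11, 8], [8, 11, 19], [(12009, -1), (15005, 1), (15007, 1), (15010, 1), (15014, 1), (16005, 1), (16007, 1), (16010, 1), (16014, 1), (17005, 1), (17007, 1), (17010, 1), (17014, 1), (19010, 1), (19014, 1), (19016, 2), (19017, 1), (19019, 2), (20010, 1), (20016, 1), (20017, 3), (20019, 3), (20020, 1), (1004019, -1)])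

def fr_49 : ℕ × List ℕ × List ℕ × List (ℕ × ℤ) := (4, [12, 2], [2, 12, 15, 17, 19], [(12002, 1), (12003, 1), (12006, 1), (12007, 1), (12010, 1), (13003, -1), (14012, -1), (14013, -2), (15002, 1), (15003, 1), (15013, -1), (16002, 1), (16006, 1), (16007, 1), (16010, 1), (16013, -1), (16014, 1), (16016, 1), (17007, 1), (17010, 1), (17013, 1), (17014, 1), (17015, 2), (17016, 2), (17017, 2), (18003, -1), (18006, 1), (18007, 1), (18010, 1), (18013, 1), (18014, 1), (18015, 1), (18016, 1), (18018, 2), (19002, 1), (19006, 1), (19014, 1), (19015, -1), (19016, 2), (19017, 1), (19018, 3), (19019, 1), (20002, 1), (20013, 1), (20014, 1), (20015, -3), (20016, -1), (20017, 1), (20018, 2), (20019, -2), (20020, 2), (1004015, -1), (1004017, -1), (1004019, -1)])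

def fr_50 : ℕ × List ℕ × List ℕ × List (ℕ × ℤ) := (4, [12, 3], [3, 12], [(12004, 1), (12008, 1), (13008, 1), (15004, 1), (15008, 1), (15012, -1), (15013, -1), (16004, 1), (16008, 1), (16012, -1), (16013, -1), (17012, -1), (17013, -1), (17015, -1), (17016, -1), (19004, 1), (19008, 1), (19012, -1), (19013, -1), (19017, 1), (20004, 1), (20008, 1), (20015, 1), (20016, 1), (20017, 1), (20019, 1)])

def fr_51 : ℕ × List ℕ × List ℕ × List (ℕ × ℤ) := (4, [13, 0], [0, 13], [(9001, 1), (9003, 1), (9005, 1), (10001, 1), (10003, 1), (10005, 1), (10009, -1), (14000, -1), (14003, 1), (14010, 1), (14014, 1)])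

def fr_52 : ℕ × List ℕ × List ℕ × List (ℕ × ℤ) := (4, [13, 2], [2, 13], [(9002, 1), (9003, 1), (9006, 1), (9007, 1), (10002, 1), (10003, 1), (10006, 1), (10007, 1), (10009, -1), (14002, -1), (14009, -1), (14014, 1)])

def fr_53 : ℕ × List ℕ × List ℕ × List (ℕ × ℤ) := (4, [13, 3], [3, 13, 15, 17], [(9004, 1), (9008, 1), (10004, 1), (10008, 1), (13008, 1), (13010, 1), (14004, -1), (15008, 1), (15009, -1), (15010, -1), (15013, -1), (16009, -1), (16010, -1), (16013, -1), (16015, -1), (17009, -1), (17010, -1), (17015, 1), (17016, 1), (18008, 1), (18010, 1), (18015, 2), (18016, 1), (19009, -1), (19010, 2), (19013, 1), (19015, 2), (19018, 2), (20008, 1), (20015, 2), (20016, 1), (20017, -1), (20020, -1), (1004015, -1), (1004017, -1)])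

def fr_54 : ℕ × List ℕ × List ℕ × List (ℕ × ℤ) := (4, [13, 4], [4, 13], [(9000, 1), (9001, 1), (9003, 1), (9006, 1), (9007, 1), (10000, 1), (10001, 1), (10003, 1), (10006, 1), (10007, 1), (14003, 1), (14005, -1), (14010, 2), (14014, 2)])

def fr_55 : ℕ × List ℕ × List ℕ × List (ℕ × ℤ) := (4, [13, 8], [8, 13], [(9005, 1), (9007, 1), (10005, 1), (10007, 1), (10009, -1), (14009, -2), (14010, -1)])

def fr_56 : ℕ × List ℕ × List ℕ × List (ℕ × ℤ) := (4, [14, 0], [0, 14, 15, 16, 18], [(12001, 1), (12003, 1), (12005, 1), (12010, 1), (13001, 1), (15000, -1), (15001, 1), (15003, 1), (15013, -1), (16003, 1), (16015, 1), (16016, 1), (17001, 1), (17003, 1), (17005, 1), (17010, 1), (17013, -1), (17017, 1), (18003, 1), (18013, 1), (18015, 2), (18016, 2), (18017, 1), (18018, 2), (19003, 1), (19005, 1), (19013, 1), (19015, 1), (19016, 1), (19017, 1), (19019, 1), (20001, 1), (20003, 1), (20010, 1), (20013, -1), (20015, -1), (20017, 1),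 (20018, -2), (20019, -1), (20020, 1), (1004015, -1), (1004016, -1), (1004018, -1)])

def fr_57 : ℕ × List ℕ × List ℕ × List (ℕ × ℤ) := (4, [14, 3], [3, 14], [(12004, 1), (12008, 1), (13004, 1), (13008, 1), (15008, 1), (15012, -1), (15013, -1), (16012, -1), (16013, -1), (16015, -1), (17004, 1), (17008, 1), (17012, -1), (17013, -1), (17016, 1), (19012, -1), (19013, -1), (19015, -1), (19017, -1), (20004, 1), (20008, 1), (20015, 1), (20016, 1), (20017, 1), (20019, 1)])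

def fr_58 : ℕ × List ℕ × List ℕ × List (ℕ × ℤ) := (4, [15, 0], [0, 15, 17], [(13001, 1), (13003, 1), (13005, 1), (13010, 1), (15001, 1), (15003, 1), (15005, 1), (15010, 1), (16000, -1), (16003, 1), (16015, 1), (16016, 1), (17005, 1), (17010, 1), (17016, 1), (18001, 1), (18005, 1), (18010, 1), (18017, -1), (18018, 1), (19001, 1), (19005, 1), (19010, 1), (19015, 2), (19016, 1), (19017, 2), (19018, 3), (19019, 2), (20005, 1), (20010, 1), (20015, 2), (20016, 1), (20017, 2), (20018, 2), (20019, 3), (20020, 2), (1004017, -1)])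

def fr_59 : ℕ × List ℕ × List ℕ × List (ℕ × ℤ) := (4, [16, 0], [0, 16], [(17000, -1), (18001, 1), (18003, 1), (18005, 1), (18010, 1), (19001, 1), (19003, 1), (19005, 1), (19010, 1), (20005, 1), (20019, 2), (20020, 2)])

def tg_0 : ℕ × ℤ × List (ℕ × ℤ) := (1000, 0, [(0, 1)])

def tg_1 : ℕ × ℤ × List (ℕ × ℤ) := (2000, 0, [(1, 1)])

def tg_2 : ℕ × ℤ × List (ℕ × ℤ) := (3000, 0, [(2, 1)])

def tg_3 : ℕ × ℤ × List (ℕ × ℤ) := (4000, 0, [(3, 1)])

def tg_4 : ℕ × ℤ × List (ℕ × ℤ) := (3001, 0, [(4, 1)])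

def tg_5 : ℕ × ℤ × List (ℕ × ℤ) := (6000, 0, [(5, 1)])

def tg_6 : ℕ × ℤ × List (ℕ × ℤ) := (6004, 0, [(6, 1)])

def tg_7 : ℕ × ℤ × List (ℕ × ℤ) := (7004, 0, [(7, 1)])

def tg_8 : ℕ × ℤ × List (ℕ × ℤ) := (4001, 0, [(8, 1)])

def tg_9 : ℕ × ℤ × List (ℕ × ℤ) := (6001, 0, [(9, 1)])

def tg_10 : ℕ × ℤ × List (ℕ × ℤ) := (10004, 0, [(10, 1)])

def tg_11 : ℕ × ℤ × List (ℕ × ℤ) := (8001, 0, [(11, 1)])

def tg_12 : ℕ × ℤ × List (ℕ × ℤ) := (10008, 0, [(12, 1)])

def tg_13 : ℕ × ℤ × List (ℕ × ℤ) := (11009, 0, [(13, 1)])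

def tg_14 : ℕ × ℤ × List (ℕ × ℤ) := (9008, 0, [(14, 1)])

def tg_15 : ℕ × ℤ × List (ℕ × ℤ) := (12005, 0, [(15, 1)])

def tg_16 : ℕ × ℤ × List (ℕ × ℤ) := (14006, 0, [(16, 1)])

def tg_17 : ℕ × ℤ × List (ℕ × ℤ) := (9005, 0, [(36, -1)])

def tg_18 : ℕ × ℤ × List (ℕ × ℤ) := (14009, 0, [(37, 1)])

def tg_19 : ℕ × ℤ × List (ℕ × ℤ) := (10009, 0, [(38, 1)])

def tg_20 : ℕ × ℤ × List (ℕ × ℤ) := (14005, 0, [(39, -1)])

def tg_21 : ℕ × ℤ × List (ℕ × ℤ) := (14010, 0, [(40, 1)])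

def tg_22 : ℕ × ℤ × List (ℕ × ℤ) := (20007, 0, [(41, -1)])

def tg_23 : ℕ × ℤ × List (ℕ × ℤ) := (19007, 0, [(42, 1)])

def tg_24 : ℕ × ℤ × List (ℕ × ℤ) := (20001, 0, [(43, 1)])

def tg_25 : ℕ × ℤ × List (ℕ × ℤ) := (13009, 0, [(44, -1)])

def tg_26 : ℕ × ℤ × List (ℕ × ℤ) := (13012, 0, [(45, -1)])

def tg_27 : ℕ × ℤ × List (ℕ × ℤ) := (16013, 0, [(46, 1)])

def tg_28 : ℕ × ℤ × List (ℕ × ℤ) := (20009, 0, [(47, -1)])

def tg_29 : ℕ × ℤ × List (ℕ × ℤ) := (19013, 0, [(48, 1)])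

def tg_30 : ℕ × ℤ × List (ℕ × ℤ) := (19009, 0, [(49, 1)])

def tg_31 : ℕ × ℤ × List (ℕ × ℤ) := (18013, 0, [(50, 1)])

def tg_32 : ℕ × ℤ × List (ℕ × ℤ) := (20013, 0, [(51, 1)])

def tg_33 : ℕ × ℤ × List (ℕ × ℤ) := (14007, 0, [(52, -1)])

def tg_34 : ℕ × ℤ × List (ℕ × ℤ) := (17010, 0, [(53, -1)])

def tg_35 : ℕ × ℤ × List (ℕ × ℤ) := (19010, 0, [(54, -1)])

def tg_36 : ℕ × ℤ × List (ℕ × ℤ) := (17015, 0, [(55, 1)])

def tg_37 : ℕ × ℤ × List (ℕ × ℤ) := (19012, 0, [(56, -1)])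

def tg_38 : ℕ × ℤ × List (ℕ × ℤ) := (19015, 0, [(57, 1)])

def tg_39 : ℕ × ℤ × List (ℕ × ℤ) := (20010, 0, [(58, 1)])

def tg_40 : ℕ × ℤ × List (ℕ × ℤ) := (16014, 0, [(59, -1)])

def tg_41 : ℕ × ℤ × List (ℕ × ℤ) := (16011, 0, [(60, -1)])

def tg_42 : ℕ × ℤ × List (ℕ × ℤ) := (20005, 0, [(61, 1)])

def tg_43 : ℕ × ℤ × List (ℕ × ℤ) := (20006, 0, [(62, 1)])

def tg_44 : ℕ × ℤ × List (ℕ × ℤ) := (20016, 0, [(63, 1)])

def tg_45 : ℕ × ℤ × List (ℕ × ℤ) := (18014, 0, [(64, -1)])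

def tg_46 : ℕ × ℤ × List (ℕ × ℤ) := (20014, 0, [(65, -1)])

def tg_47 : ℕ × ℤ × List (ℕ × ℤ) := (19016, 0, [(66, 1)])

def tg_48 : ℕ × ℤ × List (ℕ × ℤ) := (20015, 0, [(67, -1)])

def tg_49 : ℕ × ℤ × List (ℕ × ℤ) := (17008, 0, [(68, -1)])

def tg_50 : ℕ × ℤ × List (ℕ × ℤ) := (17014, 0, [(69, -1)])

def tg_51 : ℕ × ℤ × List (ℕ × ℤ) := (19017, 0, [(70, 1)])

def tg_52 : ℕ × ℤ × List (ℕ × ℤ) := (18010, 0, [(71, -1)])

def tg_53 : ℕ × ℤ × List (ℕ × ℤ) := (18017, 0, [(72, 1)])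

def tg_54 : ℕ × ℤ × List (ℕ × ℤ) := (20017, 0, [(73, 1)])

def tg_55 : ℕ × ℤ × List (ℕ × ℤ) := (19014, 0, [(74, -1)])

def tg_56 : ℕ × ℤ × List (ℕ × ℤ) := (19018, 0, [(75, 1)])

def tg_57 : ℕ × ℤ × List (ℕ × ℤ) := (18015, 0, [(76, -1)])

def tg_58 : ℕ × ℤ × List (ℕ × ℤ) := (20012, 0, [(77, -1)])

def tg_59 : ℕ × ℤ × List (ℕ × ℤ) := (20018, 0, [(78, 1)])

def tg_60 : ℕ × ℤ × List (ℕ × ℤ) := (19008, 0, [(79, -1)])

def tg_61 : ℕ × ℤ × List (ℕ × ℤ) := (19011, 0, [(80, -1)])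

def tg_62 : ℕ × ℤ × List (ℕ × ℤ) := (20019, 0, [(81, 1)])

def tg_63 : ℕ × ℤ × List (ℕ × ℤ) := (20008, 0, [(82, -1)])

def tg_64 : ℕ × ℤ × List (ℕ × ℤ) := (20011, 0, [(83, -1)])

def tg_65 : ℕ × ℤ × List (ℕ × ℤ) := (18009, 0, [(84, -1)])

def tg_66 : ℕ × ℤ × List (ℕ × ℤ) := (19005, 0, [(85, 1)])

def tg_67 : ℕ × ℤ × List (ℕ × ℤ) := (18016, 0, [(86, 1)])

def tg_68 : ℕ × ℤ × List (ℕ × ℤ) := (17016, 0, [(87, -1)])

def tg_69 : ℕ × ℤ × List (ℕ × ℤ) := (14001, 0, [(88, -1)])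

def tg_70 : ℕ × ℤ × List (ℕ × ℤ) := (14003, 0, [(89, -1)])

def tg_71 : ℕ × ℤ × List (ℕ × ℤ) := (17009, 0, [(90, -1)])

def tg_72 : ℕ × ℤ × List (ℕ × ℤ) := (18008, 0, [(91, 1)])

def tg_73 : ℕ × ℤ × List (ℕ × ℤ) := (17012, 0, [(93, 1)])

def tg_74 : ℕ × ℤ × List (ℕ × ℤ) := (16012, 0, [(94, 1)])

def tg_75 : ℕ × ℤ × List (ℕ × ℤ) := (18012, 0, [(95, 1)])

def tg_76 : ℕ × ℤ × List (ℕ × ℤ) := (17013, 0, [(96, 1)])

def tg_77 : ℕ × ℤ × List (ℕ × ℤ) := (16015, 0, [(97, 1)])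

def tg_78 : ℕ × ℤ × List (ℕ × ℤ) := (20003, 0, [(98, 1)])

def tg_79 : ℕ × ℤ × List (ℕ × ℤ) := (20004, 0, [(99, 1)])

def tg_80 : ℕ × ℤ × List (ℕ × ℤ) := (19000, 0, [(100, 1)])

def tg_81 : ℕ × ℤ × List (ℕ × ℤ) := (19004, 0, [(101, 1)])

def tg_82 : ℕ × ℤ × List (ℕ × ℤ) := (18011, 0, [(102, -1)])

def tg_83 : ℕ × ℤ × List (ℕ × ℤ) := (20000, 0, [(103, 1)])

def tg_84 : ℕ × ℤ × List (ℕ × ℤ) := (19006, 0, [(104, -1)])

def tg_85 : ℕ × ℤ × List (ℕ × ℤ) := (15013, 0, [(110, -1)])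

def tg_86 : ℕ × ℤ × List (ℕ × ℤ) := (18004, 0, [(111, -1)])

def tg_87 : ℕ × ℤ × List (ℕ × ℤ) := (9001, 0, [(112, -1)])

def tg_88 : ℕ × ℤ × List (ℕ × ℤ) := (9007, 0, [(113, 1)])

def tg_89 : ℕ × ℤ × List (ℕ × ℤ) := (16004, 0, [(114, 1)])

def tg_90 : ℕ × ℤ × List (ℕ × ℤ) := (16008, 0, [(115, -1)])

def tg_91 : ℕ × ℤ × List (ℕ × ℤ) := (17011, 0, [(116, -1)])

def tg_92 : ℕ × ℤ × List (ℕ × ℤ) := (20002, 0, [(117, -1)])

def tg_93 : ℕ × ℤ × List (ℕ × ℤ) := (9006, 0, [(119, -1)])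

def tg_94 : ℕ × ℤ × List (ℕ × ℤ) := (13011, 0, [(121, 1)])

def tg_95 : ℕ × ℤ × List (ℕ × ℤ) := (15011, 0, [(122, 1)])

def tg_96 : ℕ × ℤ × List (ℕ × ℤ) := (13008, 0, [(123, -1)])

def tg_97 : ℕ × ℤ × List (ℕ × ℤ) := (13004, 0, [(125, -1)])

def tg_98 : ℕ × ℤ × List (ℕ × ℤ) := (10005, 0, [(137, -1)])

def tg_99 : ℕ × ℤ × List (ℕ × ℤ) := (14002, 0, [(138, 1)])

def tg_100 : ℕ × ℤ × List (ℕ × ℤ) := (10006, 0, [(150, -1)])

def tg_101 : ℕ × ℤ × List (ℕ × ℤ) := (15012, 0, [(163, 1)])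

def tg_102 : ℕ × ℤ × List (ℕ × ℤ) := (7005, 0, [(199, -1)])

def tg_103 : ℕ × ℤ × List (ℕ × ℤ) := (12008, 0, [(210, -1)])

def tg_104 : ℕ × ℤ × List (ℕ × ℤ) := (9002, 0, [(211, 1)])

def tg_105 : ℕ × ℤ × List (ℕ × ℤ) := (15004, 0, [(232, -1)])

def tg_106 : ℕ × ℤ × List (ℕ × ℤ) := (16005, 0, [(233, 1)])

def tg_107 : ℕ × ℤ × List (ℕ × ℤ) := (13001, 0, [(239, -1)])

def tg_108 : ℕ × ℤ × List (ℕ × ℤ) := (12011, 0, [(242, -1)])

def tg_109 : ℕ × ℤ × List (ℕ × ℤ) := (15008, 0, [(244, 1)])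

def tg_110 : ℕ × ℤ × List (ℕ × ℤ) := (12004, 0, [(247, 1)])

def tg_111 : ℕ × ℤ × List (ℕ × ℤ) := (10007, 0, [(252, 1)])

def tg_112 : ℕ × ℤ × List (ℕ × ℤ) := (17004, 0, [(254, 1)])

def tg_113 : ℕ × ℤ × List (ℕ × ℤ) := (9009, 0, [(18, 1)])

def tg_114 : ℕ × ℤ × List (ℕ × ℤ) := (13013, 0, [(20, -1)])

def tg_115 : ℕ × ℤ × List (ℕ × ℤ) := (14014, 0, [(21, 1)])

def tg_116 : ℕ × ℤ × List (ℕ × ℤ) := (12012, 0, [(24, 1)])

def tg_117 : ℕ × ℤ × List (ℕ × ℤ) := (16016, 0, [(25, -1)])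

def tg_118 : ℕ × ℤ × List (ℕ × ℤ) := (16001, 0, [(26, 1)])

def tg_119 : ℕ × ℤ × List (ℕ × ℤ) := (19019, 0, [(27, -1)])

def tg_120 : ℕ × ℤ × List (ℕ × ℤ) := (15015, 0, [(29, 1)])

def tg_121 : ℕ × ℤ × List (ℕ × ℤ) := (17017, 0, [(30, -1)])

def tg_122 : ℕ × ℤ × List (ℕ × ℤ) := (18018, 0, [(31, -1)])

def tg_123 : ℕ × ℤ × List (ℕ × ℤ) := (20020, 0, [(32, -1)])

def tg_124 : ℕ × ℤ × List (ℕ × ℤ) := (14000, 0, [(107, 1)])

def tg_125 : ℕ × ℤ × List (ℕ × ℤ) := (11008, 0, [(120, 1)])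

def tg_126 : ℕ × ℤ × List (ℕ × ℤ) := (11004, 0, [(135, -1)])

def tg_127 : ℕ × ℤ × List (ℕ × ℤ) := (8004, 0, [(201, -1)])

def tg_128 : ℕ × ℤ × List (ℕ × ℤ) := (8008, 0, [(19, -1)])

def tg_129 : ℕ × ℤ × List (ℕ × ℤ) := (11011, 0, [(22, 1)])

def tg_130 : ℕ × ℤ × List (ℕ × ℤ) := (12007, 0, [(23, -1)])

def tg_131 : ℕ × ℤ × List (ℕ × ℤ) := (15010, 0, [(28, -1)])

def tg_132 : ℕ × ℤ × List (ℕ × ℤ) := (10010, 0, [(105, -1)])

def tg_133 : ℕ × ℤ × List (ℕ × ℤ) := (7000, 0, [(34, 1)])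

def tg_134 : ℕ × ℤ × List (ℕ × ℤ) := (16003, 0, [(106, 1), (108, 1), (162, -1)])

def tg_135 : ℕ × ℤ × List (ℕ × ℤ) := (19002, 0, [(124, -1), (127, -1), (129, 1), (130, 1), (236, -1)])

def tg_136 : ℕ × ℤ × List (ℕ × ℤ) := (12009, 0, [(129, 1)])

def tg_137 : ℕ × ℤ × List (ℕ × ℤ) := (14013, 0, [(140, 1)])

def tg_138 : ℕ × ℤ × List (ℕ × ℤ) := (18007, 0, [(141, 1)])

def tg_139 : ℕ × ℤ × List (ℕ × ℤ) := (15014, 0, [(142, -1)])

def tg_140 : ℕ × ℤ × List (ℕ × ℤ) := (16009, 0, [(143, -1)])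

def tg_141 : ℕ × ℤ × List (ℕ × ℤ) := (18006, 0, [(144, -1)])

def tg_142 : ℕ × ℤ × List (ℕ × ℤ) := (16007, 0, [(145, -1)])

def tg_143 : ℕ × ℤ × List (ℕ × ℤ) := (13007, 0, [(146, -1)])

def tg_144 : ℕ × ℤ × List (ℕ × ℤ) := (16010, 0, [(147, -1)])

def tg_145 : ℕ × ℤ × List (ℕ × ℤ) := (19003, 0, [(148, 1)])

def tg_146 : ℕ × ℤ × List (ℕ × ℤ) := (18005, 0, [(149, -1)])

def tg_147 : ℕ × ℤ × List (ℕ × ℤ) := (13005, 0, [(151, 1)])

def tg_148 : ℕ × ℤ × List (ℕ × ℤ) := (17007, 0, [(153, -1)])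

def tg_149 : ℕ × ℤ × List (ℕ × ℤ) := (13010, 0, [(156, -1)])

def tg_150 : ℕ × ℤ × List (ℕ × ℤ) := (18003, 0, [(160, 1)])

def tg_151 : ℕ × ℤ × List (ℕ × ℤ) := (14012, 0, [(166, 1)])

def tg_152 : ℕ × ℤ × List (ℕ × ℤ) := (14011, 0, [(168, 1)])

def tg_153 : ℕ × ℤ × List (ℕ × ℤ) := (18002, 0, [(169, 1)])

def tg_154 : ℕ × ℤ × List (ℕ × ℤ) := (16006, 0, [(174, -1)])

def tg_155 : ℕ × ℤ × List (ℕ × ℤ) := (15009, 0, [(175, -1)])

def tg_156 : ℕ × ℤ × List (ℕ × ℤ) := (18000, 0, [(176, 1)])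

def tg_157 : ℕ × ℤ × List (ℕ × ℤ) := (17006, 0, [(177, -1)])

def tg_158 : ℕ × ℤ × List (ℕ × ℤ) := (16000, 0, [(178, 1)])

def tg_159 : ℕ × ℤ × List (ℕ × ℤ) := (17005, 0, [(179, -1)])

def tg_160 : ℕ × ℤ × List (ℕ × ℤ) := (14008, 0, [(182, -1)])

def tg_161 : ℕ × ℤ × List (ℕ × ℤ) := (15005, 0, [(183, -1)])

def tg_162 : ℕ × ℤ × List (ℕ × ℤ) := (13006, 0, [(184, -1)])

def tg_163 : ℕ × ℤ × List (ℕ × ℤ) := (13002, 0, [(185, 1)])

def tg_164 : ℕ × ℤ × List (ℕ × ℤ) := (16002, 0, [(189, 1)])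

def tg_165 : ℕ × ℤ × List (ℕ × ℤ) := (19001, 0, [(198, 1)])

def tg_166 : ℕ × ℤ × List (ℕ × ℤ) := (18001, 0, [(212, 1)])

def tg_167 : ℕ × ℤ × List (ℕ × ℤ) := (5001, 0, [(226, 1)])

def tg_168 : ℕ × ℤ × List (ℕ × ℤ) := (17000, 0, [(256, -1)])

def tg_169 : ℕ × ℤ × List (ℕ × ℤ) := (5005, 0, [(17, -1)])

def tg_170 : ℕ × ℤ × List (ℕ × ℤ) := (9003, 0, [(118, -1)])

def tg_171 : ℕ × ℤ × List (ℕ × ℤ) := (9000, 0, [(133, 1)])

def tg_172 : ℕ × ℤ × List (ℕ × ℤ) := (10001, 0, [(134, 1)])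

def tg_173 : ℕ × ℤ × List (ℕ × ℤ) := (17001, 0, [(139, 1)])

def tg_174 : ℕ × ℤ × List (ℕ × ℤ) := (6005, 0, [(171, 1)])

def tg_175 : ℕ × ℤ × List (ℕ × ℤ) := (7006, 0, [(238, 1)])

def tg_176 : ℕ × ℤ × List (ℕ × ℤ) := (10003, 0, [(248, 1)])

def tg_177 : ℕ × ℤ × List (ℕ × ℤ) := (10002, 0, [(249, 1)])

def tg_178 : ℕ × ℤ × List (ℕ × ℤ) := (10000, 0, [(251, 1)])

def tg_179 : ℕ × ℤ × List (ℕ × ℤ) := (7002, 0, [(35, 1)])

def tg_180 : ℕ × ℤ × List (ℕ × ℤ) := (14004, 0, [(215, -1), (216, 1)])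

def tg_181 : ℕ × ℤ × List (ℕ × ℤ) := (11006, 0, [(132, -1)])

def tg_182 : ℕ × ℤ × List (ℕ × ℤ) := (11001, 0, [(152, 1)])

def tg_183 : ℕ × ℤ × List (ℕ × ℤ) := (11005, 0, [(158, -1)])

def tg_184 : ℕ × ℤ × List (ℕ × ℤ) := (15001, 0, [(159, 1)])

def tg_185 : ℕ × ℤ × List (ℕ × ℤ) := (15000, 0, [(173, 1)])

def tg_186 : ℕ × ℤ × List (ℕ × ℤ) := (13000, 0, [(186, 1)])

def tg_187 : ℕ × ℤ × List (ℕ × ℤ) := (13003, 0, [(188, -1)])

def tg_188 : ℕ × ℤ × List (ℕ × ℤ) := (15002, 0, [(192, -1)])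

def tg_189 : ℕ × ℤ × List (ℕ × ℤ) := (8005, 0, [(222, 1), (228, 1), (229, -1), (231, 1)])

def tg_190 : ℕ × ℤ × List (ℕ × ℤ) := (5004, 0, [(170, 1)])

def tg_191 : ℕ × ℤ × List (ℕ × ℤ) := (12001, 0, [(190, 1)])

def tg_192 : ℕ × ℤ × List (ℕ × ℤ) := (9004, 0, [(191, 1)])

def tg_193 : ℕ × ℤ × List (ℕ × ℤ) := (7001, 0, [(128, -1), (164, 1), (213, 1), (214, 1)])

def tg_194 : ℕ × ℤ × List (ℕ × ℤ) := (5003, 0, [(128, 1)])

def tg_195 : ℕ × ℤ × List (ℕ × ℤ) := (5000, 0, [(157, 1)])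

def tg_196 : ℕ × ℤ × List (ℕ × ℤ) := (5002, 0, [(164, 1)])

def tg_197 : ℕ × ℤ × List (ℕ × ℤ) := (6003, 0, [(187, 1)])

def tg_198 : ℕ × ℤ × List (ℕ × ℤ) := (7003, 0, [(204, 1)])

def tg_199 : ℕ × ℤ × List (ℕ × ℤ) := (2001, 0, [(213, -1)])

def tg_200 : ℕ × ℤ × List (ℕ × ℤ) := (7007, 0, [(131, 1)])

def tg_201 : ℕ × ℤ × List (ℕ × ℤ) := (6002, 0, [(154, 1), (167, -1), (237, 1)])

def tg_202 : ℕ × ℤ × List (ℕ × ℤ) := (6006, 0, [(136, -1)])

def tg_203 : ℕ × ℤ × List (ℕ × ℤ) := (3002, 0, [(240, 1), (241, -1)])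

def tg_204 : ℕ × ℤ × List (ℕ × ℤ) := (11007, 0, [(154, -1), (197, -1), (202, -1), (205, -1), (207, -1), (208, 1), (209, -1), (243, 1), (245, -2), (246, 1), (253, -1), (255, -1)])

def tg_205 : ℕ × ℤ × List (ℕ × ℤ) := (12006, 0, [(165, -1)])

def tg_206 : ℕ × ℤ × List (ℕ × ℤ) := (8000, 0, [(180, 1)])

def tg_207 : ℕ × ℤ × List (ℕ × ℤ) := (12003, 0, [(161, -1), (197, -1), (202, -1), (205, -1), (207, -1), (208, 1), (209, -1), (245, -1), (246, 1), (250, -1)])

def tg_208 : ℕ × ℤ × List (ℕ × ℤ) := (8007, 0, [(196, 1)])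

def tg_209 : ℕ × ℤ × List (ℕ × ℤ) := (8006, 0, [(167, 1), (193, 1), (217, 1), (218, -1), (219, -1), (220, 1), (221, -1)])

def tg_210 : ℕ × ℤ × List (ℕ × ℤ) := (11003, 0, [(193, 1)])

def tg_211 : ℕ × ℤ × List (ℕ × ℤ) := (11002, 0, [(167, 1), (194, 1), (234, 1), (235, -1)])

def tg_212 : ℕ × ℤ × List (ℕ × ℤ) := (4003, 0, [(33, 1), (109, 1), (126, 1), (155, -1), (161, 1), (181, 1), (195, 1), (222, 1), (225, -1), (230, 1)])

def tg_213 : ℕ × ℤ × List (ℕ × ℤ) := (8003, 0, [(195, 1)])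

def tg_214 : ℕ × ℤ × List (ℕ × ℤ) := (4002, 0, [(33, -1), (109, -2), (126, -2), (155, 2), (181, -1), (222, -1), (223, -1), (224, 1), (227, -1), (228, -1)])

def tg_215 : ℕ × ℤ × List (ℕ × ℤ) := (11010, 1, [(126, 1), (155, -1)])

def tg_216 : ℕ × ℤ × List (ℕ × ℤ) := (12010, 1, [(33, -1), (109, -1)])

def tg_217 : ℕ × ℤ × List (ℕ × ℤ) := (17003, 1, [(154, -1)])

def tg_218 : ℕ × ℤ × List (ℕ × ℤ) := (15006, 1, [(155, -1)])

def tg_219 : ℕ × ℤ × List (ℕ × ℤ) := (17002, 1, [(33, -1), (109, -2), (167, 1)])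

def tg_220 : ℕ × ℤ × List (ℕ × ℤ) := (15003, 1, [(109, -1), (161, 1)])

def tg_221 : ℕ × ℤ × List (ℕ × ℤ) := (11000, 1, [(126, 1), (155, -1), (181, 1)])

def tg_222 : ℕ × ℤ × List (ℕ × ℤ) := (8002, 1, [(194, -1), (197, -1), (200, -1), (203, -1), (205, -1), (206, 1), (207, -1)])

def tg_223 : ℕ × ℤ × List (ℕ × ℤ) := (12002, 1, [(194, 1)])

def tg_224 : ℕ × ℤ × List (ℕ × ℤ) := (12000, 1, [(33, -1), (109, -1), (172, 1)])

def tg_225 : ℕ × ℤ × List (ℕ × ℤ) := (15007, -1, [])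

def C : Cert where
  p := 2
  n := 21
  r := 5
  fuel := 229
  rules := [rule_0, rule_1, rule_2, rule_3, rule_4, rule_5, rule_6, rule_7, rule_8, rule_9, rule_10, rule_11, rule_12, rule_13, rule_14, rule_15, rule_16, rule_17, rule_18, rule_19, rule_20]
  defs := [(1, 0), (2, 0), (3, 0), (4, 0), (3, 1), (6, 0), (6, 4), (7, 4), (4, 1), (6, 1), (10, 4), (8, 1), (10, 8), (11, 9), (9, 8), (12, 5)]
  items := [item_0, item_1, item_2, item_3, item_4]
  ovs := [ov_0, ov_1, ov_2, ov_3, ov_4, ov_5, ov_6, ov_7, ov_8, ov_9, ov_10, ov_11, ov_12, ov_13, ov_14, ov_15, ov_16, ov_17, ov_18, ov_19, ov_20, ov_21, ov_22, ov_23, ov_24, ov_25, ov_26, ov_27, ov_28, ov_29, ov_30, ov_31, ov_32, ov_33, ov_34, ov_35, ov_36, ov_37, ov_38, ov_39, ov_40, ov_41, ov_42, ov_43, ov_44, ov_45, ov_46, ov_47, ov_48, ov_49, ov_50, ov_51, ov_52, ov_53, ov_54, ov_55, ov_56, ov_57, ov_58, ov_59, ov_60, ov_61, ov_62, ov_63, ov_64, ov_65, ov_66, ov_67, ov_68,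 ov_69, ov_70, ov_71, ov_72, ov_73, ov_74, ov_75, ov_76, ov_77, ov_78, ov_79, ov_80, ov_81, ov_82, ov_83, ov_84, ov_85, ov_86, ov_87, ov_88, ov_89, ov_90, ov_91, ov_92, ov_93, ov_94, ov_95, ov_96, ov_97, ov_98, ov_99, ov_100, ov_101, ov_102, ov_103, ov_104, ov_105, ov_106, ov_107, ov_108, ov_109, ov_110, ov_111, ov_112, ov_113, ov_114, ov_115, ov_116, ov_117, ov_118, ov_119, ov_120, ov_121, ov_122, ov_123, ov_124, ov_125, ov_126, ov_127, ov_128, ov_129, ov_130, ov_131, ov_132, ov_133, ov_134, ov_135, ov_136, ov_137, ov_138, ov_139, ov_140, ov_141, ov_142, ov_143, ov_144, ov_145, ov_146, ov_147, ov_148, ov_149, ov_150, ov_151, ov_152, ov_153, ov_154, ov_155, ov_156, ov_157, ov_158, ov_159, ov_160, ov_161, ov_162, ov_163, ov_164, ov_165, ov_166, ov_167, ov_168, ov_169, ov_170, ov_171, ov_172, ov_173, ov_174, ov_175, ov_176, ov_177, ov_178, ov_179, ov_180]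
  frs := [fr_0, fr_1, fr_2, fr_3, fr_4, fr_5, fr_6, fr_7, fr_8, fr_9, fr_10, fr_11, fr_12, fr_13, fr_14, fr_15, fr_16, fr_17, fr_18, fr_19, fr_20, fr_21, fr_22, fr_23, fr_24, fr_25, fr_26, fr_27, fr_28, fr_29, fr_30, fr_31, fr_32, fr_33, fr_34, fr_35, fr_36, fr_37, fr_38, fr_39, fr_40, fr_41, fr_42, fr_43, fr_44, fr_45, fr_46, fr_47, fr_48, fr_49, fr_50, fr_51, fr_52, fr_53, fr_54, fr_55, fr_56, fr_57, fr_58, fr_59]
  k0 := 15007
  zm := 2
  zcomb := [(14, 2), (27, 1), (33, -1), (49, 1), (56, 1), (70, 2), (79, 2), (92, -2), (93, 2), (101, 2), (109, -2)]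
  targets := [tg_0, tg_1, tg_2, tg_3, tg_4, tg_5, tg_6, tg_7, tg_8, tg_9, tg_10, tg_11, tg_12, tg_13, tg_14, tg_15, tg_16, tg_17, tg_18, tg_19, tg_20, tg_21, tg_22, tg_23, tg_24, tg_25, tg_26, tg_27, tg_28, tg_29, tg_30, tg_31, tg_32, tg_33, tg_34, tg_35, tg_36, tg_37, tg_38, tg_39, tg_40, tg_41, tg_42, tg_43, tg_44, tg_45, tg_46, tg_47, tg_48, tg_49, tg_50, tg_51, tg_52, tg_53, tg_54, tg_55, tg_56, tg_57, tg_58, tg_59, tg_60, tg_61, tg_62, tg_63, tg_64, tg_65, tg_66, tg_67, tg_68, tg_69, tg_70, tg_71, tg_72, tg_73, tg_74, tg_75, tg_76, tg_77, tg_78, tg_79, tg_80, tg_81, tg_82, tg_83, tg_84, tg_85, tg_86, tg_87, tg_88, tg_89, tg_90, tg_91, tg_92, tg_93, tg_94, tg_95, tg_96, tg_97, tg_98, tg_99, tg_100, tg_101, tg_102, tg_103, tg_104, tg_105, tg_106, tg_107, tg_108, tg_109, tg_110, tg_111, tg_112, tg_113, tg_114, tg_115, tg_116, tg_117, tg_118, tg_119, tg_120, tg_121, tg_122, tg_123, tg_124, tg_125, tg_126, tg_127, tg_128,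 tg_129, tg_130, tg_131, tg_132, tg_133, tg_134, tg_135, tg_136, tg_137, tg_138, tg_139, tg_140, tg_141, tg_142, tg_143, tg_144, tg_145, tg_146, tg_147, tg_148, tg_149, tg_150, tg_151, tg_152, tg_153, tg_154, tg_155, tg_156, tg_157, tg_158, tg_159, tg_160, tg_161, tg_162, tg_163, tg_164, tg_165, tg_166, tg_167, tg_168, tg_169, tg_170, tg_171, tg_172, tg_173, tg_174, tg_175, tg_176, tg_177, tg_178, tg_179, tg_180, tg_181, tg_182, tg_183, tg_184, tg_185, tg_186, tg_187, tg_188, tg_189, tg_190, tg_191, tg_192, tg_193, tg_194, tg_195, tg_196, tg_197, tg_198, tg_199, tg_200, tg_201, tg_202, tg_203, tg_204, tg_205, tg_206, tg_207, tg_208, tg_209, tg_210, tg_211, tg_212, tg_213, tg_214, tg_215, tg_216, tg_217, tg_218, tg_219, tg_220, tg_221, tg_222, tg_223, tg_224, tg_225]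

def wE : List (List (ℕ × ℕ)) := [[(960673299482187812024255209748484458, 0)],
  [(956808910070693464114942713217596096, 0)],
  [(6938691195295121898708591241869740, 0)],
  [(648319210438252644315460738345243911, 0)],
  [(984818244535754528103549039458486304, 133817)],
  [(960666252078690145234912720196163168, 0)],
  [(254513875604246911851009656779037130, 0)],
  [(260147387491152802518809603757163983, 0)],
  [(984818244535754528103549039458486304, 4424227)],
  [(978288180344178655415768347585978720, 0)],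
  [(313674437473216275209597485053223090, 0)],
  [(984818244535754528103549039458486304, 4414873)],
  [(984818244535754528103549039458486304, 1808541)],
  [(984818244535754528103549039458486304, 3678776)],
  [(983556734225721270408659688667254880, 0)],
  [(984818244535754528103549039458486304, 3775820)],
  [(984818244535754528103549039458486304, 1256224)],
  [(984818244535754528103549039458486304, 902657)],
  [(984818244535754528103549039458486304, 10558)],
  [(984818244535754528103549039458486304, 608810)],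
  [(984818244535754528103549039458486304, 8088382)],
  [(Cfsg.Agent.Lib.Leech.Co1.Pid, 16777215)]]

def wY : List (List (ℕ × ℕ)) := [[(754304167907741031047870042177326807, 16662667)],
  [(268194750673333043480390970608212384, 999806)],
  [(296064163440039166670718331076531308, 12830901)],
  [(111092027778337996270504001355655784, 15351184), (0, 0), (440685678500825814747073407896067457, 2483085), (0, 0), (127722176155993072713252329810680230, 14842025), (0, 0), (674149520780003679630121067624378953, 13245382), (0, 0), (262555928039393763250261147986242700, 15633434), (0, 0), (541931235110832590687373323522071813, 16283262), (0, 0), (556050715973413205914025450957622359, 4429500), (0, 0), (666783677564763181333773573402384500, 6100032), (0, 0), (962199629954074152280678693404290638, 6668540), (0, 0), (960111580374359749364186796462853581, 961654), (0, 0), (146085821719287843483385582260308139, 4343317), (0, 0), (137901014613478923312200547625542337,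 13945670), (0, 0), (14994353214114079325964558911682119, 11344550), (0, 0), (756952258840639975141451959621788195, 13245382), (0, 0), (543940301156995600116728820329596934, 6575798)],
  [(181983313247666571916861077279778934, 0)]]

def lv : List (ℕ × List (List ℕ)) := [(686053159114795289240674611757597208, [[3, 10, 21], [10, 21], [7, 21], [3, 7, 10, 21], [7, 10, 21], [3, 21], [3, 7, 21], [21], [], [3, 7], [3], [7, 10], [3, 7, 10], [7], [10], [3, 10]]),
  (686053169018315603523716810950590992, [[12, 21], []]),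
  (686053159114795289249681811012338192, [[2, 3, 9, 10, 14, 15], [15], [], [2, 3, 9, 10, 14]]),
  (686053159115097520695578269051273744, [[4, 12], []]),
  (686053159114795289240674620347531792, [[0, 2, 3, 6, 10, 14, 17, 21], [6, 7, 10, 14, 17, 21], [0, 2, 3, 7, 14, 17, 21], [17, 21], [], [0, 2, 3, 7, 14], [6, 7, 10, 14], [0, 2, 3, 6, 10, 14]]),
  (686053159114795289240674886635504144, [[11, 12, 15, 17, 21], []]),
  (686053159114795298464046648612373008, [[8, 11, 15, 17, 21], []]),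
  (686053159114795289240674611757597456, [[1, 20], [1, 14, 20], [1, 9, 14, 20], [5, 20], [1, 9, 20], [5, 9, 14, 20], [5, 14, 20], [1, 5, 9, 20], [9, 20], [5, 9, 20], [1, 5, 9, 14, 20], [9, 14, 20], [1, 5, 20], [14, 20], [1, 5, 14, 20], [20], [], [1, 5, 14], [14], [1, 5], [9, 14], [1, 5, 9, 14], [5, 9], [9], [1, 5, 9], [5, 14], [5, 9, 14], [1, 9], [5], [1, 9, 14], [1, 14], [1]]),
  (686053159114795289240674611757605392, [[19, 20], []]),
  (686053159114795289240674611757859344, [[13], []]),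
  (686053159114795289240674612026032656, [[16], []]),
  (686053159114795289240956086734307856, [[18, 20], []])]

theorem hc : C.check = true := by decide +kernel

theorem row_0 : rowOK C wE 0 = true := by decide +kernel

theorem row_1 : rowOK C wE 1 = true := by decide +kernel

theorem row_2 : rowOK C wE 2 = true := by decide +kernel

theorem row_3 : rowOK C wE 3 = true := by decide +kernel

theorem row_4 : rowOK C wE 4 = true := by decide +kernel

theorem row_5 : rowOK C wE 5 = true := by decide +kernel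

theorem row_6 : rowOK C wE 6 = true := by decide +kernel

theorem row_7 : rowOK C wE 7 = true := by decide +kernel

theorem row_8 : rowOK C wE 8 = true := by decide +kernel

theorem row_9 : rowOK C wE 9 = true := by decide +kernel

theorem row_10 : rowOK C wE 10 = true := by decide +kernel

theorem row_11 : rowOK C wE 11 = true := by decide +kernel

theorem row_12 : rowOK C wE 12 = true := by decide +kernel

theorem row_13 : rowOK C wE 13 = true := by decide +kernel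

theorem row_14 : rowOK C wE 14 = true := by decide +kernel

theorem row_15 : rowOK C wE 15 = true := by decide +kernel

theorem row_16 : rowOK C wE 16 = true := by decide +kernel

theorem row_17 : rowOK C wE 17 = true := by decide +kernel

theorem row_18 : rowOK C wE 18 = true := by decide +kernel

theorem row_19 : rowOK C wE 19 = true := by decide +kernel

theorem row_20 : rowOK C wE 20 = true := by decide +kernel

theorem hrows : ∀ j < C.n, rowOK C wE j = true := by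
  intro j hj
  have hj' : j < 21 := hj
  interval_cases j
  · exact row_0
  · exact row_1
  · exact row_2
  · exact row_3
  · exact row_4
  · exact row_5
  · exact row_6
  · exact row_7
  · exact row_8
  · exact row_9
  · exact row_10
  · exact row_11
  · exact row_12
  · exact row_13
  · exact row_14
  · exact row_15
  · exact row_16
  · exact row_17
  · exact row_18
  · exact row_19
  · exact row_20

theorem itm_0 : itemOK C wE wY 0 = true := by decide +kernel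

theorem itm_1 : itemOK C wE wY 1 = true := by decide +kernel

theorem itm_2 : itemOK C wE wY 2 = true := by decide +kernel

theorem itm_3 : itemOK C wE wY 3 = true := by decide +kernel

theorem itm_4 : itemOK C wE wY 4 = true := by decide +kernel

theorem hitems : ∀ f < C.items.length, itemOK C wE wY f = true := by
  intro f hf
  have hf' : f < 5 := hf
  interval_cases f
  · exact itm_0
  · exact itm_1
  · exact itm_2
  · exact itm_3
  · exact itm_4

theorem hlev : chkLev wE [] lv = true := by decide +kernel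

theorem hlv : lvOK C lv = true := by decide +kernel

theorem hprod : (lv.map fun t => t.2.length).prod = 2 * C.p ^ C.n := by decide +kernel

theorem hwN : wE.getD C.n [] = [negOp] := rfl

/-- The bound of this prime. -/
theorem main [Fact (Nat.Prime 2)] {Γ : Type*} [Group Γ] [Finite Γ] {σ : Γ →* Spor.Co1}
    (hσ : IsStemExtension σ) (hG : Nat.card Spor.Co1 = 2 ^ 21 * 1982582476875) (P : Sylow 2 Γ) :
    Nat.card (σ.subgroupMap (P : Subgroup Γ)).ker ∣ 2 :=
  card_ker_dvd' (p := 2) (m := 1982582476875) C hc wE wY lv hwN hrows hitems hlev hlv hprod rfl hσ hG (by norm_num) P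

end Cfsg.Agent.Lib.Schur.Co1M.P2
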