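import Cfsg.Agent.Lib.Schur.Co1M.Engine

/-!
# Tail certificate for the central quotient of the automorphism group of the lattice at the prime 3
-/

set_option autoImplicit false
set_option maxRecDepth 1000000
set_option maxHeartbeats 0

namespace Cfsg.Agent.Lib.Schur.Co1M.P3

open Cfsg Cfsg.Agent.Lib.Schur.PcMain Cfsg.Agent.Lib.Schur.Co1M.Engine

def rule_0 : List (List ℕ) := [[5, 5, 6, 7]]

def rule_1 : List (List ℕ) := [[1, 3], [8]]

def rule_2 : List (List ℕ) := [[2, 4], [2, 5], [8, 8]]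

def rule_3 : List (List ℕ) := [[3, 5, 5, 7, 7, 8], [3], [3, 5, 5, 7, 8], []]

def rule_4 : List (List ℕ) := [[4, 6], [4, 5, 5, 7, 8, 8], [4, 5, 5, 7, 8], [4, 7], []]

def rule_5 : List (List ℕ) := [[5, 7, 8, 8], [5], [5], [5, 8], [5, 8, 8], []]

def rule_6 : List (List ℕ) := [[6, 7, 8, 8], [6, 7, 8], [6, 7, 7, 8], [6, 8], [6, 8, 8], [6], []]

def rule_7 : List (List ℕ) := [[7], [7, 8, 8], [7, 8], [7], [7], [7], [7], []]

def rule_8 : List (List ℕ) := [[8], [8], [8], [8], [8], [8], [8], [8], []]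

def item_0 : List (List ℕ) × List (List ℕ) := ([[0], [1], [2], [4, 4, 8, 8], [3, 3, 6, 8], [6, 8, 8], [5, 5, 7, 7, 8], [7, 7, 8], [8]], [[0, 0, 1, 1, 2, 2, 3, 4, 5, 6, 7, 7, 8, 8], [1, 1, 3, 5, 6, 7, 8, 8], [1, 1, 2, 4, 6, 6, 8], [3, 3, 4, 8], [3, 3, 5, 6, 7, 8, 8], [6, 7, 8, 8], [5, 5, 7, 7], [7, 8, 8], [8]])

def item_1 : List (List ℕ) × List (List ℕ) := ([[0], [1], [2], [4, 4, 8, 8], [3, 3, 6, 8], [6, 8, 8], [5, 5, 7, 7, 8], [7, 7, 8], [8]], [[0, 3, 4, 4, 5, 5, 6, 6, 7, 7], [1, 1, 5, 5, 6, 7], [1, 1, 2, 5, 5, 6, 6, 8], [3, 4, 4, 5, 7, 7, 8, 8], [3, 6, 8, 8], [5, 6, 8], [5, 7, 8, 8], [7, 8], [8]])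

def item_2 : List (List ℕ) × List (List ℕ) := ([[2, 2, 4, 4, 5, 7, 8], [1], [1, 1, 3, 5, 6, 6, 8, 8], [5, 6, 8, 8], [1, 1, 2, 3, 4, 4, 5, 5, 6, 7, 7, 8, 8], [5, 5, 8, 8], [5, 5, 7, 7, 8], [8]], [[1, 2, 2, 3, 4, 5, 5, 8], [1, 2, 4, 4, 7, 7], [1, 1, 3, 6, 6, 7], [1, 1, 2, 2, 3, 4, 5, 5, 7, 8, 8], [1, 1, 2, 4, 5, 5], [7, 7, 8, 8], [5], [8]])

def ov_0 : List ℕ × ℕ × ℕ × List (ℕ × ℤ) := ([1, 1, 1, 1], 0, 1, [(8001, 1)])

def ov_1 : List ℕ × ℕ × ℕ × List (ℕ × ℤ) := ([3, 3, 3, 1], 0, 2, [(3001, -3)])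

def ov_2 : List ℕ × ℕ × ℕ × List (ℕ × ℤ) := ([5, 5, 5, 1], 0, 2, [(5001, -3)])

def ov_3 : List ℕ × ℕ × ℕ × List (ℕ × ℤ) := ([7, 4, 0], 0, 1, [(7006, -1)])

def ov_4 : List ℕ × ℕ × ℕ × List (ℕ × ℤ) := ([7, 5, 2], 0, 1, [(8005, -1)])

def ov_5 : List ℕ × ℕ × ℕ × List (ℕ × ℤ) := ([7, 5, 3], 0, 1, [(8007, 1)])

def ov_6 : List ℕ × ℕ × ℕ × List (ℕ × ℤ) := ([8, 1, 0], 0, 1, [(8003, -1)])

def ov_7 : List ℕ × ℕ × ℕ × List (ℕ × ℤ) := ([8, 2, 0], 0, 1, [(8004, -1)])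

def ov_8 : List ℕ × ℕ × ℕ × List (ℕ × ℤ) := ([8, 4, 0], 0, 1, [(8006, -1)])

def ov_9 : List ℕ × ℕ × ℕ × List (ℕ × ℤ) := ([6, 5, 1], 0, 1, [(7005, -1), (8005, -1)])

def ov_10 : List ℕ × ℕ × ℕ × List (ℕ × ℤ) := ([7, 2, 0], 0, 1, [(7004, -1), (8000, 1), (8004, -1)])

def ov_11 : List ℕ × ℕ × ℕ × List (ℕ × ℤ) := ([4, 4, 4, 3], 0, 2, [(4003, -3), (7004, -3), (7007, -1)])

def ov_12 : List ℕ × ℕ × ℕ × List (ℕ × ℤ) := ([5, 5, 5, 3], 0, 2, [(5003, -3), (8005, -3), (8008, -1)])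

def ov_13 : List ℕ × ℕ × ℕ × List (ℕ × ℤ) := ([6, 3, 1], 0, 1, [(7003, -1), (8001, 1), (8003, -1), (8007, -1)])

def ov_14 : List ℕ × ℕ × ℕ × List (ℕ × ℤ) := ([1, 1, 1, 0], 0, 2, [(1000, -3), (3001, -3), (3003, -1), (8000, 1), (8003, -3)])

def ov_15 : List ℕ × ℕ × ℕ × List (ℕ × ℤ) := ([2, 1, 1, 1], 0, 1, [(2001, 3), (5001, 3), (5005, 1), (8002, 1), (8005, 3)])

def ov_16 : List ℕ × ℕ × ℕ × List (ℕ × ℤ) := ([5, 1, 0], 0, 1, [(5003, -1), (7001, -1), (7003, -1), (8001, -2), (8003, -1), (8007, -1), (8008, -1)])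

def ov_17 : List ℕ × ℕ × ℕ × List (ℕ × ℤ) := ([5, 2, 0], 0, 1, [(5004, -1), (7002, -1), (7004, -1), (8002, -2), (8007, -2), (8008, -1)])

def ov_18 : List ℕ × ℕ × ℕ × List (ℕ × ℤ) := ([5, 3, 2], 0, 1, [(7005, 1), (8002, 1), (8005, -1), (8007, -1)])

def ov_19 : List ℕ × ℕ × ℕ × List (ℕ × ℤ) := ([4, 4, 4, 0], 0, 2, [(4000, -3), (6004, -3), (6006, -1), (8004, -2), (8006, -4), (8008, -2)])

def ov_20 : List ℕ × ℕ × ℕ × List (ℕ × ℤ) := ([0, 0, 0, 0], 0, 1, [(5000, 2), (6000, 1), (7000, 1), (7005, 1), (7006, 2), (7007, 1), (8005, 2), (8006, 1), (8007, 3), (8008, 2)])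

def ov_21 : List ℕ × ℕ × ℕ × List (ℕ × ℤ) := ([3, 2, 1], 0, 1, [(5001, 2), (5003, 1), (7001, 1), (7005, -1), (8001, 1), (8005, 1), (8007, 1), (8008, 1)])

def ov_22 : List ℕ × ℕ × ℕ × List (ℕ × ℤ) := ([6, 2, 1], 0, 1, [(6005, -1), (7001, 2), (7002, -1), (8001, 1), (8002, -1), (8008, 1)])

def ov_23 : List ℕ × ℕ × ℕ × List (ℕ × ℤ) := ([5, 3, 0], 0, 1, [(7003, -1), (8000, 1), (8003, -2), (8005, 1)])

def ov_24 : List ℕ × ℕ × ℕ × List (ℕ × ℤ) := ([6, 1, 0], 0, 1, [(6003, -1), (7000, 1), (7001, -1), (7003, -2), (8000, 1), (8001, -2), (8003, -2), (8007, -1), (8008, -1)])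

def ov_25 : List ℕ × ℕ × ℕ × List (ℕ × ℤ) := ([6, 2, 0], 0, 1, [(6004, -1), (7000, 2), (7002, -1), (8000, 1), (8002, -2), (8004, -1), (8007, 3), (8008, -1)])

def ov_26 : List ℕ × ℕ × ℕ × List (ℕ × ℤ) := ([3, 2, 2, 2], 0, 1, [(3002, 3), (5002, 3), (5005, 2), (7002, 3), (7005, 3), (7007, 1), (8002, 1), (8003, 2), (8005, 6), (8007, 4), (8008, 2)])

def ov_27 : List ℕ × ℕ × ℕ × List (ℕ × ℤ) := ([2, 1, 0], 0, 1, [(3002, 1), (4001, -1), (4003, -1), (5000, 1), (5004, 1), (7003, -1), (7004, 1), (7005, 1), (8003, -1), (8004, 1), (8007, 1), (8008, 1)])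

def ov_28 : List ℕ × ℕ × ℕ × List (ℕ × ℤ) := ([4, 2, 0], 0, 1, [(5000, 2), (5004, -2), (6002, -1), (6004, -1), (6005, 2), (7000, 1), (7005, 1), (7006, -1), (8000, 1), (8004, -2), (8006, -2), (8007, 1), (8008, -1)])

def ov_29 : List ℕ × ℕ × ℕ × List (ℕ × ℤ) := ([4, 1, 0], 0, 1, [(4003, -1), (5000, 2), (5003, -2), (6001, -1), (6003, -1), (6005, 2), (7000, 1), (7003, -2), (7005, -1), (7006, -2), (8000, 2), (8005, 1), (8006, -4), (8007, 1)])

def ov_30 : List ℕ × ℕ × ℕ × List (ℕ × ℤ) := ([2, 0, 0, 0], 0, 1, [(2000, 3), (4000, 3), (4004, 1), (5002, 2), (5004, 6), (6000, 1), (6002, 1), (6004, 4), (6006, 1), (7002, 1), (7007, 1), (8004, 6), (8005, 6), (8006, 7), (8007, 2), (8008, 8)])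

def fr_0 : ℕ × List ℕ × List ℕ × List (ℕ × ℤ) := (0, [4, 1], [1, 4, 7, 7, 8, 8], [(3001, 2), (5001, 2), (5003, -1), (6001, 1), (6003, -1), (7001, 3), (7003, -2), (7005, -1), (7006, -1), (7007, 1), (8001, 3), (8003, -2), (8006, -1), (8007, 1), (8008, 1), (1000007, -2), (1000008, -2)])

def fr_1 : ℕ × List ℕ × List ℕ × List (ℕ × ℤ) := (0, [4, 3], [3, 4, 7], [(4003, 2), (5003, 2), (5004, 1), (6003, 2), (6004, -1), (7003, 3), (7004, 3), (7005, -2), (7006, -1), (7007, 1), (8003, 5), (8004, -1), (8005, -1), (8006, 5), (8007, 4), (8008, 1), (1000007, -1)])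

def fr_2 : ℕ × List ℕ × List ℕ × List (ℕ × ℤ) := (0, [5, 3], [3, 5, 8], [(6003, 2), (6004, -1), (7003, 2), (7004, 1), (8003, 2), (8004, -2), (8006, 1), (8007, 3), (1000008, -1)])

def fr_3 : ℕ × List ℕ × List ℕ × List (ℕ × ℤ) := (1, [1, 0], [0, 1, 4, 4, 5], [(1000, 1), (3001, -1), (3003, 1), (4001, -4), (4003, -4), (5000, 2), (5001, -2), (5003, 2), (5005, -3), (6000, 1), (6001, -4), (6003, 2), (6004, 2), (6005, -4), (7000, 1), (7001, -2), (7003, -2), (7004, -2), (7005, -7), (7006, -4), (7007, -3), (8001, -2), (8003, 1), (8004, -4), (8005, -3), (8007, -5), (8008, -1), (1001004, -2), (1001005, -1)])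

def fr_4 : ℕ × List ℕ × List ℕ × List (ℕ × ℤ) := (1, [2, 0], [0, 2, 3, 3, 8, 8], [(1000, 2), (3001, -1), (3002, 1), (4001, -4), (4002, -2), (4003, -2), (5000, 2), (5001, -2), (5002, -1), (5003, 1), (5004, -8), (5005, -4), (6000, 2), (6001, -4), (6002, -2), (6005, -2), (7001, -2), (7002, -1), (7003, -1), (7004, -6), (7005, -15), (7006, -6), (7007, -5), (8000, 1), (8001, -2), (8003, -2), (8004, -4), (8005, -13), (8006, -2), (8007, -15), (8008, -9), (1001003, -2), (1001008, -2)])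

def fr_5 : ℕ × List ℕ × List ℕ × List (ℕ × ℤ) := (1, [3, 3, 3], [], [(3003, 1), (4003, 3), (5003, 3), (5004, 6), (5005, 1), (7003, 2), (7004, 5), (7005, 6), (7007, 3), (8003, 2), (8004, -2), (8005, 7), (8007, 12), (8008, 5), (1001003, 3)])

def fr_6 : ℕ × List ℕ × List ℕ × List (ℕ × ℤ) := (1, [3, 0], [0, 3, 5, 5, 8], [(3000, 1), (5000, 1), (5003, -2), (6005, 2), (7000, 2), (7004, 4), (7005, -1), (7006, 6), (7007, 1), (8004, 4), (8005, -2), (8006, 6), (8007, 4), (8008, 1), (1001005, -2), (1001008, -1)])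

def fr_7 : ℕ × List ℕ × List ℕ × List (ℕ × ℤ) := (1, [4, 4, 4], [], [(3003, -1), (6003, -3), (8006, -2), (1001004, 3)])

def fr_8 : ℕ × List ℕ × List ℕ × List (ℕ × ℤ) := (1, [4, 0], [0, 4, 6, 6, 7, 7, 8, 8], [(3000, -1), (4003, -2), (5003, -2), (5004, 4), (6003, -1), (6004, 2), (6005, 6), (7003, -4), (7004, -1), (7005, -7), (7006, -4), (8000, 1), (8003, 1), (8004, 4), (8005, 11), (8006, 5), (8007, 1), (8008, 2), (1001006, -2), (1001007, -2), (1001008, -2)])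

def fr_9 : ℕ × List ℕ × List ℕ × List (ℕ × ℤ) := (1, [4, 2], [2, 4, 6, 6], [(3001, 2), (3002, -1), (5003, -4), (6001, 2), (6003, -2), (6005, 6), (7001, 1), (7002, 2), (7003, -1), (7005, 5), (7006, 3), (7007, 1), (8001, 2), (8002, -1), (8003, -2), (8005, 5), (8006, -2), (8007, 6), (8008, -1), (1001006, -2)])

def fr_10 : ℕ × List ℕ × List ℕ × List (ℕ × ℤ) := (1, [4, 3], [3, 4, 7], [(4003, 2), (5003, -1), (6003, 1), (6005, 1), (7004, 1), (7005, -2), (7007, 1), (8003, 4), (8004, 1), (8005, 1), (8006, 2), (8007, -2), (1001007, -1)])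

def fr_11 : ℕ × List ℕ × List ℕ × List (ℕ × ℤ) := (1, [5, 0], [0, 5, 7, 7], [(5000, 1), (5003, 1), (5004, 2), (6003, 1), (6004, 2), (7003, 2), (7004, 4), (7005, 2), (7006, 3), (7007, 1), (8000, -1), (8003, 2), (8004, 3), (8006, 7), (8007, 11), (8008, 4), (1001007, -2)])

def fr_12 : ℕ × List ℕ × List ℕ × List (ℕ × ℤ) := (1, [5, 3], [3, 5, 8], [(5003, 1), (5004, 2), (6003, 1), (6005, 1), (7005, -2), (7006, -2), (8003, 1), (8004, -2), (8006, 5), (8007, 4), (8008, 2), (1001008, -1)])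

def fr_13 : ℕ × List ℕ × List ℕ × List (ℕ × ℤ) := (1, [6, 6, 6], [], [(5005, -1), (7005, -3), (7007, -1), (8005, -3), (8007, -3), (8008, 1), (1001006, 3)])

def fr_14 : ℕ × List ℕ × List ℕ × List (ℕ × ℤ) := (1, [6, 2], [2, 6, 8, 8], [(5001, 2), (5002, -1), (6005, -2), (7001, 2), (7002, -1), (7005, 2), (7006, 2), (8001, 3), (8002, -1), (8005, 1), (8006, 2), (8007, -2), (8008, 1), (1001008, -2)])

def fr_15 : ℕ × List ℕ × List ℕ × List (ℕ × ℤ) := (1, [6, 5], [5, 6], [(6005, 1), (7005, 1), (7006, -1), (8005, 5), (8006, 1), (8007, 3)])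

def fr_16 : ℕ × List ℕ × List ℕ × List (ℕ × ℤ) := (1, [7, 0], [0, 7], [(7000, -1), (7003, 1), (7004, 2), (7005, 2), (7006, 2), (8003, 1), (8004, 2), (8005, 2), (8006, 2), (8007, 2)])

def fr_17 : ℕ × List ℕ × List ℕ × List (ℕ × ℤ) := (2, [2, 1], [1, 2, 5, 5, 6], [(2001, -2), (3002, 1), (4001, -4), (4003, -2), (5001, -3), (5003, -1), (5004, 2), (5005, -1), (6002, 2), (6004, 4), (6005, 10), (7001, -2), (7004, 1), (7005, -11), (7006, -3), (7007, -1), (8001, -3), (8002, 1), (8004, -1), (8005, -3), (8006, 3), (8008, 1), (1002005, -2), (1002006, -1)])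

def fr_18 : ℕ × List ℕ × List ℕ × List (ℕ × ℤ) := (2, [3, 0], [0, 3, 5, 6, 6, 7, 7], [(2001, -2), (3001, -1), (4001, -1), (5002, -5), (5004, -2), (6002, -2), (6004, -2), (6005, 5), (7002, -2), (7004, -2), (7006, 1), (7007, -1), (8001, 1), (8002, -1), (8003, -1), (8004, -2), (8005, -9), (8006, -3), (8007, -3), (8008, -4), (1002005, -1), (1002006, -2), (1002007, -2)])

def fr_19 : ℕ × List ℕ × List ℕ × List (ℕ × ℤ) := (2, [4, 0], [0, 4, 6], [(2001, 1), (3001, -2), (3002, -3), (4001, 3), (4002, -1), (4003, 3), (5001, 2), (5002, -1), (5003, -2), (5004, -5), (6002, -2), (6004, -2), (6005, 1), (7003, 1), (7004, -3), (7005, 6), (8001, 1), (8002, -2), (8003, -5), (8004, 2), (8005, -11), (8006, -3), (8007, -8), (8008, -5), (1002006, -1)])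

def fr_20 : ℕ × List ℕ × List ℕ × List (ℕ × ℤ) := (2, [4, 2], [2, 4, 6, 7, 7], [(3001, -2), (4001, -2), (4003, -1), (5001, 3), (5002, 1), (5004, -2), (5005, -1), (6001, -2), (6003, 1), (6004, 2), (6005, -3), (7001, -2), (7002, -1), (7004, -4), (7005, -3), (7006, -8), (7007, -1), (8001, 2), (8002, 1), (8003, 1), (8004, -2), (8005, -5), (8006, 2), (8007, -3), (8008, -3), (1002006, -1), (1002007, -2)])

def fr_21 : ℕ × List ℕ × List ℕ × List (ℕ × ℤ) := (2, [5, 4], [4, 5, 7], [(5001, -4), (5002, -2), (5003, -2), (5004, -4), (6005, 2), (7001, 4), (7002, 2), (7004, 2), (7005, 8), (8001, -2), (8002, -1), (8003, -2), (8004, -3), (8005, -1), (8007, 5), (1002007, -1)])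

def tg_0 : ℕ × ℤ × List (ℕ × ℤ) := (1000, 0, [(0, 1)])

def tg_1 : ℕ × ℤ × List (ℕ × ℤ) := (2000, 0, [(1, 1)])

def tg_2 : ℕ × ℤ × List (ℕ × ℤ) := (2001, 0, [(2, 1)])

def tg_3 : ℕ × ℤ × List (ℕ × ℤ) := (4000, 0, [(3, 1)])

def tg_4 : ℕ × ℤ × List (ℕ × ℤ) := (4003, 0, [(4, 1)])

def tg_5 : ℕ × ℤ × List (ℕ × ℤ) := (5003, 0, [(5, 1)])

def tg_6 : ℕ × ℤ × List (ℕ × ℤ) := (8001, 0, [(6, 1)])

def tg_7 : ℕ × ℤ × List (ℕ × ℤ) := (7006, 0, [(9, -1)])

def tg_8 : ℕ × ℤ × List (ℕ × ℤ) := (8005, 0, [(10, -1)])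

def tg_9 : ℕ × ℤ × List (ℕ × ℤ) := (8007, 0, [(11, 1)])

def tg_10 : ℕ × ℤ × List (ℕ × ℤ) := (8003, 0, [(12, -1)])

def tg_11 : ℕ × ℤ × List (ℕ × ℤ) := (8004, 0, [(13, -1)])

def tg_12 : ℕ × ℤ × List (ℕ × ℤ) := (8006, 0, [(14, -1)])

def tg_13 : ℕ × ℤ × List (ℕ × ℤ) := (7005, 0, [(15, -1)])

def tg_14 : ℕ × ℤ × List (ℕ × ℤ) := (8008, 0, [(18, -1)])

def tg_15 : ℕ × ℤ × List (ℕ × ℤ) := (7003, 0, [(19, -1)])

def tg_16 : ℕ × ℤ × List (ℕ × ℤ) := (7001, 0, [(22, -1)])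

def tg_17 : ℕ × ℤ × List (ℕ × ℤ) := (8002, 0, [(24, 1)])

def tg_18 : ℕ × ℤ × List (ℕ × ℤ) := (8000, 0, [(29, 1)])

def tg_19 : ℕ × ℤ × List (ℕ × ℤ) := (6005, 0, [(52, 1)])

def tg_20 : ℕ × ℤ × List (ℕ × ℤ) := (7004, 0, [(16, -1)])

def tg_21 : ℕ × ℤ × List (ℕ × ℤ) := (7007, 0, [(17, -1)])

def tg_22 : ℕ × ℤ × List (ℕ × ℤ) := (7002, 0, [(28, -1)])

def tg_23 : ℕ × ℤ × List (ℕ × ℤ) := (7000, 0, [(53, -1)])

def tg_24 : ℕ × ℤ × List (ℕ × ℤ) := (5004, 0, [(23, -1)])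

def tg_25 : ℕ × ℤ × List (ℕ × ℤ) := (6003, 0, [(30, -1)])

def tg_26 : ℕ × ℤ × List (ℕ × ℤ) := (6004, 0, [(31, -1)])

def tg_27 : ℕ × ℤ × List (ℕ × ℤ) := (6006, 0, [(25, -1)])

def tg_28 : ℕ × ℤ × List (ℕ × ℤ) := (5001, 0, [(8, 1), (27, 2)])

def tg_29 : ℕ × ℤ × List (ℕ × ℤ) := (5005, 0, [(21, 1)])

def tg_30 : ℕ × ℤ × List (ℕ × ℤ) := (5002, 0, [(49, 2), (51, -1)])

def tg_31 : ℕ × ℤ × List (ℕ × ℤ) := (5000, 0, [(47, -2), (48, 1)])

def tg_32 : ℕ × ℤ × List (ℕ × ℤ) := (6000, 0, [(26, 1)])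

def tg_33 : ℕ × ℤ × List (ℕ × ℤ) := (6002, 0, [(34, -1)])

def tg_34 : ℕ × ℤ × List (ℕ × ℤ) := (6001, 0, [(35, -1)])

def tg_35 : ℕ × ℤ × List (ℕ × ℤ) := (4004, 0, [(36, 1)])

def tg_36 : ℕ × ℤ × List (ℕ × ℤ) := (4001, 0, [(7, 8), (20, -8), (32, -30), (33, 175), (37, -8), (38, 16), (39, 16), (41, -12), (42, -8), (49, 24), (54, -1), (55, 2), (56, 24), (57, -27), (58, 50)])

def tg_37 : ℕ × ℤ × List (ℕ × ℤ) := (3002, 0, [(33, 1)])

def tg_38 : ℕ × ℤ × List (ℕ × ℤ) := (3001, 0, [(7, 1), (37, 2), (38, -4), (39, -4)])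

def tg_39 : ℕ × ℤ × List (ℕ × ℤ) := (3003, 0, [(20, -1)])

def tg_40 : ℕ × ℤ × List (ℕ × ℤ) := (4002, 0, [(56, -1), (57, 1), (58, -2)])

def tg_41 : ℕ × ℤ × List (ℕ × ℤ) := (3000, 0, [(40, 6), (43, -3), (44, 4), (45, -4), (46, -8), (47, 8), (49, 11), (50, -8)])

def C : Cert where
  p := 3
  n := 9
  r := 3
  fuel := 453
  rules := [rule_0, rule_1, rule_2, rule_3, rule_4, rule_5, rule_6, rule_7, rule_8]
  defs := [(1, 0), (2, 0), (2, 1), (4, 0), (4, 3), (5, 3)]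
  items := [item_0, item_1, item_2]
  ovs := [ov_0, ov_1, ov_2, ov_3, ov_4, ov_5, ov_6, ov_7, ov_8, ov_9, ov_10, ov_11, ov_12, ov_13, ov_14, ov_15, ov_16, ov_17, ov_18, ov_19, ov_20, ov_21, ov_22, ov_23, ov_24, ov_25, ov_26, ov_27, ov_28, ov_29, ov_30]
  frs := [fr_0, fr_1, fr_2, fr_3, fr_4, fr_5, fr_6, fr_7, fr_8, fr_9, fr_10, fr_11, fr_12, fr_13, fr_14, fr_15, fr_16, fr_17, fr_18, fr_19, fr_20, fr_21]
  k0 := 1000
  zm := 1
  zcomb := [(0, 1)]
  targets := [tg_0, tg_1, tg_2, tg_3, tg_4, tg_5, tg_6, tg_7, tg_8, tg_9, tg_10, tg_11, tg_12, tg_13, tg_14, tg_15, tg_16, tg_17, tg_18, tg_19, tg_20, tg_21, tg_22, tg_23, tg_24, tg_25, tg_26, tg_27, tg_28, tg_29, tg_30, tg_31, tg_32, tg_33, tg_34, tg_35, tg_36, tg_37, tg_38, tg_39, tg_40, tg_41]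

def wE : List (List (ℕ × ℕ)) := [[(70566397851623487451374680858019565, 11329168), (0, 0), (420184399907150517092759035886912105, 13014071), (0, 0), (127907265968107455527751078696333767, 1351424), (0, 0), (305656571509864791940343298393574679, 8204822), (0, 0), (941204168001730524005978356515996205, 14009429), (0, 0), (793423028198992487048612319074665824, 1209935), (0, 0), (553803175455849991025463006719411659, 2425238), (0, 0), (18485400064417379752902999218574707, 9400490)],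
  [(732458831834864758434256514686884418, 8663097), (0, 0), (982079954157541243178178409309179504, 650962), (0, 0), (193995322692988474554673918269480325, 6874342), (0, 0), (181130441071473096196465667244472931, 7500648)],
  [(224759061900237906332075960297934529, 10979996), (0, 0), (754284037696020161938385464779346538, 14224711), (0, 0), (760763568202097697668372110220965060, 11178791), (0, 0), (470730311210695260590513169313578056, 6371221), (0, 0), (105642461344410704205540614317256193, 13099110), (0, 0), (360204720698142175087033164640758816, 2726648), (0, 0), (766079541608062423994979072935757920, 11888010), (0, 0), (682233205116219691507711467482388721, 5473687), (0, 0), (524588311109073590066383447804846803, 1182989), (0, 0), (690616768962209336253788139428063363, 6248474), (0, 0), (584843306964715539591150208239672965, 817525), (0, 0), (648442624320795541655271875209835842, 15292391), (0, 0), (274522628616552552838866264641999438,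 3954839), (0, 0), (90285033201670721378047122661123731, 6110590), (0, 0), (923158612550779152861419794822399299, 13370381), (0, 0), (470573968435198424785242903148156995, 15142165)],
  [(361476491711121727863095156404296049, 6847935), (0, 0), (446011832912524532738422447324534112, 4645632), (0, 0), (136909091518318476180902817259182263, 8171715), (0, 0), (439647970815696040777765444650217739, 14463966)],
  [(718740738849291022835713769935744611, 2552504), (0, 0), (776906820355611220882995626212655141, 145176), (0, 0), (725887166292381841082409441080845719, 1484824), (0, 0), (485601984609549548894262831055751847, 10073967)],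
  [(804864703089122308846070231069269314, 8546577), (0, 0), (487352855111232867184359482418768104, 705094), (0, 0), (126221724936476736028379908644417170, 8168540)],
  [(66511504819235928989159133096853763, 11128942), (0, 0), (9250506305348950444179489318032980, 16364104), (0, 0), (671891885786233902034649702995669320, 1683333)],
  [(483549129710837583709090693229518415, 12485089), (0, 0), (335812492496940033204592040848277831, 15633434), (0, 0), (961165851108988685968564748980552768, 5201838)],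
  [(130764944001132749991565926666245762, 10886358), (0, 0), (16928921823299939825187066417209030, 8324366), (0, 0), (30156867437471463979425976128975521, 2088851)],
  [(Cfsg.Agent.Lib.Leech.Co1.Pid, 16777215)]]

def wY : List (List (ℕ × ℕ)) := [[(529091613444353373037838235548960200, 7710869), (0, 0), (761247664953051919139623182765769897, 16431074), (0, 0), (220722847972598981759052178418508496, 14310033), (0, 0), (418692331825571718373919515703780403, 6182665), (0, 0), (260090415607574233190967063409796672, 2525690)],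
  [(774344735585849022870436270652764587, 11759326), (0, 0), (317511537568069792883529062862042252, 6832158), (0, 0), (722338596386364135244679127850703463, 9708306), (0, 0), (21584529608666009685053024065993450, 961654)],
  [(394827592285594295174810059416810222, 15928140), (0, 0), (758116786868104887821456332694040674, 10961337), (0, 0), (384644031964209344149090256160951339, 7491273), (0, 0), (233670142799743876316554528801065459, 15203217), (0, 0), (543554225032416000404646766369451297, 10138309)]]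

def lv : List (ℕ × List (List ℕ)) := [(680865935566730768183948680039514832, [[4, 4, 9], [2, 2, 4, 4, 9], [4, 4, 8, 8], [2, 2, 4, 4, 8], [2, 8], [2, 4, 8, 8], [4, 8], [2, 2, 8], [4, 8, 8, 9], [2, 2, 9], [2, 8, 8, 9], [2, 4, 8, 9], [2, 2, 4, 4, 8, 8], [4, 4, 8], [2, 4, 4], [2, 2, 4, 8], [], [2, 9], [2, 4, 9], [2, 4, 4, 8, 8, 9], [2, 2, 4, 9], [8, 8, 9], [2, 2, 4, 8, 8, 9], [2, 4, 4, 8, 9], [8, 9], [4, 9], [2, 2, 8, 8, 9], [2, 2, 8, 8], [4], [8], [2, 4, 4, 8], [2, 2, 4, 8, 8], [8, 8], [2, 2, 4], [2, 4, 4, 8, 8], [2, 4], [2], [9], [2, 2, 4, 8, 9], [2, 4, 4, 9], [4, 4, 8, 9], [2, 2, 4, 4, 8, 8, 9], [2, 4, 8], [2, 8, 8], [2, 2], [4, 8, 8], [2, 2, 8, 9], [4, 8, 9], [2, 4, 8, 8, 9], [2, 8, 9], [2, 2, 4, 4, 8, 9], [4, 4, 8, 8, 9], [2, 2, 4, 4], [4, 4]]),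
  (937884629832090978653127834505593366, [[6, 6, 8], [6, 8, 8], []]),
  (560262802443013351629545775522303411, [[], [1, 1, 2, 2, 8], [1, 2, 5, 8, 8, 9]]),
  (680858322003368322395486620295381526, [[7, 8], [0, 1, 1, 2, 2, 3, 3, 5, 6, 6, 7], [], [0, 0, 1, 2, 4, 4, 5, 6, 8, 9], [0, 1, 1, 2, 2, 3, 3, 5, 6, 6, 8, 8], [0, 0, 1, 2, 4, 4, 5, 6, 7, 7, 9], [0, 0, 1, 2, 4, 4, 5, 6, 7, 8, 8, 9], [0, 1, 1, 2, 2, 3, 3, 5, 6, 6, 7, 7, 8], [7, 7, 8, 8]]),
  (688646774718591209509110781839956688, [[3, 3, 4, 4, 6, 6], [3, 4, 6, 7], []]),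
  (562856655492156397359615677203854963, [[], [5, 5, 6, 8], [5, 6, 6, 8, 8]])]

theorem hc : C.check = true := by decide +kernel

theorem row_0 : rowOK C wE 0 = true := by decide +kernel

theorem row_1 : rowOK C wE 1 = true := by decide +kernel

theorem row_2 : rowOK C wE 2 = true := by decide +kernel

theorem row_3 : rowOK C wE 3 = true := by decide +kernel

theorem row_4 : rowOK C wE 4 = true := by decide +kernel

theorem row_5 : rowOK C wE 5 = true := by decide +kernel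

theorem row_6 : rowOK C wE 6 = true := by decide +kernel

theorem row_7 : rowOK C wE 7 = true := by decide +kernel

theorem row_8 : rowOK C wE 8 = true := by decide +kernel

theorem hrows : ∀ j < C.n, rowOK C wE j = true := by
  intro j hj
  have hj' : j < 9 := hj
  interval_cases j
  · exact row_0
  · exact row_1
  · exact row_2
  · exact row_3
  · exact row_4
  · exact row_5
  · exact row_6
  · exact row_7
  · exact row_8

theorem itm_0 : itemOK C wE wY 0 = true := by decide +kernel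

theorem itm_1 : itemOK C wE wY 1 = true := by decide +kernel

theorem itm_2 : itemOK C wE wY 2 = true := by decide +kernel

theorem hitems : ∀ f < C.items.length, itemOK C wE wY f = true := by
  intro f hf
  have hf' : f < 3 := hf
  interval_cases f
  · exact itm_0
  · exact itm_1
  · exact itm_2

theorem hlev : chkLev wE [] lv = true := by decide +kernel

theorem hlv : lvOK C lv = true := by decide +kernel

theorem hprod : (lv.map fun t => t.2.length).prod = 2 * C.p ^ C.n := by decide +kernel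

theorem hwN : wE.getD C.n [] = [negOp] := rfl

/-- The bound of this prime. -/
theorem main [Fact (Nat.Prime 3)] {Γ : Type*} [Group Γ] [Finite Γ] {σ : Γ →* Spor.Co1}
    (hσ : IsStemExtension σ) (hG : Nat.card Spor.Co1 = 3 ^ 9 * 211236945920000) (P : Sylow 3 Γ) :
    Nat.card (σ.subgroupMap (P : Subgroup Γ)).ker ∣ 1 :=
  card_ker_dvd' (p := 3) (m := 211236945920000) C hc wE wY lv hwN hrows hitems hlev hlv hprod rfl hσ hG (by norm_num) P

end Cfsg.Agent.Lib.Schur.Co1M.P3
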