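import Cfsg.Agent.Lib.Schur.Co1M.Engine

/-!
# Tail certificate for the central quotient of the automorphism group of the lattice at the prime 5
-/

set_option autoImplicit false
set_option maxRecDepth 1000000
set_option maxHeartbeats 0

namespace Cfsg.Agent.Lib.Schur.Co1M.P5

open Cfsg Cfsg.Agent.Lib.Schur.PcMain Cfsg.Agent.Lib.Schur.Co1M.Engine

def rule_0 : List (List ℕ) := [[]]

def rule_1 : List (List ℕ) := [[1, 2], []]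

def rule_2 : List (List ℕ) := [[2, 3], [2, 3], []]

def rule_3 : List (List ℕ) := [[3], [3], [3], []]

def item_0 : List (List ℕ) × List (List ℕ) := ([[0], [1], [2], [3, 3, 3, 3]], [[0, 0, 1, 1, 2, 2, 2, 2, 3], [0, 1, 1, 1, 2, 2, 2], [2, 2, 2, 2], [3, 3, 3, 3]])

def item_1 : List (List ℕ) × List (List ℕ) := ([[0], [1], [2], [3, 3, 3, 3]], [[1, 1, 2, 2, 3, 3, 3, 3], [0, 1, 2, 3, 3, 3, 3], [2, 2, 2], [3, 3, 3, 3]])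

def ov_0 : List ℕ × ℕ × ℕ × List (ℕ × ℤ) := ([3, 1, 0], 0, 1, [(3002, -1)])

def ov_1 : List ℕ × ℕ × ℕ × List (ℕ × ℤ) := ([3, 3, 3, 3, 3, 0], 0, 4, [(3000, -5)])

def ov_2 : List ℕ × ℕ × ℕ × List (ℕ × ℤ) := ([2, 1, 0], 0, 1, [(3000, 1), (3001, -1), (3002, -2)])

def ov_3 : List ℕ × ℕ × ℕ × List (ℕ × ℤ) := ([2, 2, 2, 2, 2, 0], 0, 4, [(2000, -5), (3002, -10), (3003, -1)])

def ov_4 : List ℕ × ℕ × ℕ × List (ℕ × ℤ) := ([2, 2, 2, 2, 2, 1], 0, 4, [(2001, -5), (3002, -10), (3003, -1)])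

def ov_5 : List ℕ × ℕ × ℕ × List (ℕ × ℤ) := ([1, 0, 0, 0, 0, 0], 0, 1, [(1000, 5), (2000, 10), (2002, 1), (3000, 5), (3002, 10), (3003, 2)])

def fr_0 : ℕ × List ℕ × List ℕ × List (ℕ × ℤ) := (0, [2, 0], [0, 2, 3, 3, 3, 3], [(2000, 7), (2001, 8), (3000, 4), (3001, 5), (3002, 24), (3003, 3), (1000003, -4)])

def fr_1 : ℕ × List ℕ × List ℕ × List (ℕ × ℤ) := (0, [2, 1], [1, 2, 3, 3, 3, 3], [(2000, 4), (2001, 11), (3001, 9), (3002, 27), (3003, 3), (1000003, -4)])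

def fr_2 : ℕ × List ℕ × List ℕ × List (ℕ × ℤ) := (0, [3, 3, 3, 3, 3], [], [(1000003, 5)])

def fr_3 : ℕ × List ℕ × List ℕ × List (ℕ × ℤ) := (1, [3, 1], [1, 3], [(3000, 4), (3002, 4)])

def tg_0 : ℕ × ℤ × List (ℕ × ℤ) := (1000, 0, [(0, 1)])

def tg_1 : ℕ × ℤ × List (ℕ × ℤ) := (2000, 0, [(1, 1)])

def tg_2 : ℕ × ℤ × List (ℕ × ℤ) := (3002, 0, [(2, -1)])

def tg_3 : ℕ × ℤ × List (ℕ × ℤ) := (3003, 0, [(5, -1)])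

def tg_4 : ℕ × ℤ × List (ℕ × ℤ) := (3001, 0, [(3, -1), (4, -1), (11, -1)])

def tg_5 : ℕ × ℤ × List (ℕ × ℤ) := (3000, 0, [(4, 1)])

def tg_6 : ℕ × ℤ × List (ℕ × ℤ) := (2002, 0, [(7, 1)])

def tg_7 : ℕ × ℤ × List (ℕ × ℤ) := (2001, 0, [(6, 17), (8, 8), (9, 2), (10, 8)])

def C : Cert where
  p := 5
  n := 4
  r := 2
  fuel := 71
  rules := [rule_0, rule_1, rule_2, rule_3]
  defs := [(1, 0), (2, 0)]
  items := [item_0, item_1]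
  ovs := [ov_0, ov_1, ov_2, ov_3, ov_4, ov_5]
  frs := [fr_0, fr_1, fr_2, fr_3]
  k0 := 1000
  zm := 1
  zcomb := [(0, 1)]
  targets := [tg_0, tg_1, tg_2, tg_3, tg_4, tg_5, tg_6, tg_7]

def wE : List (List (ℕ × ℕ)) := [[(549948324016158924563817178811911746, 475812), (0, 0), (570111330271758154939956272359153355, 7762565), (0, 0), (146085821719287843483385582260308139, 4343317), (0, 0), (352589855660908922515486118931224263, 12835882), (0, 0), (297315034388452234652301601494513762, 3421328), (0, 0), (53230852457447431946694681399795821, 8716939), (0, 0), (62807750820286960040380889421233379, 699803)],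
  [(68009825510647189939384299070005493, 2717923), (0, 0), (443092701149256964163912723199136494, 12168344), (0, 0), (153672812884269531887260190724627607, 10310809), (0, 0), (757392237490489567535545044071621013, 12810450), (0, 0), (339695436896229814537704261205208145, 11593394), (0, 0), (298136372090638759469286282725412386, 12835882)],
  [(714050402643752537724829983637412964, 6918327), (0, 0), (970479253166576301471601600582110918, 11725835), (0, 0), (520069451261649958823321560708992242, 1646562), (0, 0), (394673677942669934649630826926889188, 4855731), (0, 0), (232015680794433871338051140714187844, 371206), (0, 0), (967478663059387374367039394612267553, 7055279)],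
  [(4273832592936786777667165985251661, 7641639), (0, 0), (399036941574730513177077440233967815, 11423088), (0, 0), (20956115265654355236247852676295202, 8201865), (0, 0), (581634227427326851970934541434704170, 15351184), (0, 0), (967277508230015892143193663371653398, 1909678)],
  [(Cfsg.Agent.Lib.Leech.Co1.Pid, 16777215)]]

def wY : List (List (ℕ × ℕ)) := [[(984818244535754528103549039458486304, 6337856)],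
  [(542929339168392496532521266887411073, 587102), (0, 0), (174441455617962005577947542536602799, 9848438), (0, 0), (584747626742251845620174041079021836, 12189412), (0, 0), (755782821640493212736897570674117673, 12668874), (0, 0), (166764722758460521247054944944926337, 13160133), (0, 0), (361537097345709320906541542404397813, 1116327)]]

def lv : List (ℕ × List (List ℕ)) := [(686053159114795584388579791110423056, [[1, 1, 1, 1, 2, 3, 3, 3, 4], [1, 2, 2, 3, 3, 3, 3], [1, 1, 1, 1, 3, 3, 3], [1, 1, 1, 1, 2, 3, 3], [1, 2, 2, 3, 3, 3, 4], [1, 2, 2, 2, 3, 3, 3, 3, 4], [1, 1, 1, 1, 3, 3, 4], [1, 2, 2, 2, 3, 3, 3], [1, 1, 2, 2, 2, 3], [1, 1, 1, 2, 2, 2, 2, 3, 3, 3, 4], [1, 1, 1, 3, 3, 3, 3, 4], [1, 1, 1, 3, 3, 3], [1, 1, 1, 2, 2, 2, 2, 3, 3, 3, 3], [2, 2, 3, 3, 3, 4], [1, 1, 1, 2, 2, 2, 2, 3, 3], [1, 1, 1,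 2, 2, 2, 3, 3, 3], [2, 2, 2, 3, 3, 4], [1, 1, 1, 2, 2, 2, 3, 3, 4], [1, 1, 2, 2, 2, 2], [1, 1, 2, 2, 2, 2, 3, 4], [1, 1, 2, 2, 2, 4], [2, 2, 3, 3], [1, 1, 2, 2, 2, 3, 3, 4], [1, 1, 2, 2, 3, 4], [2, 2, 2, 3, 3, 3], [1, 1, 2, 2, 3, 3], [2, 3, 3, 4], [2, 3, 3, 3], [2, 2, 3, 4], [2, 2, 3, 3, 3, 3], [1, 1, 1, 1, 2, 3, 3, 3, 3], [1, 1, 1, 1, 2, 2, 3, 3, 3], [1, 2, 3, 3, 3, 3, 4], [1, 2, 2, 4], [1, 1, 1, 1, 3, 3, 3, 3, 4], [1, 2, 3, 3, 3], [1, 2, 2, 2], [1, 1, 1, 1, 2, 2, 3, 3, 4], [1, 1, 1, 1, 2, 2, 2, 2, 3, 3, 3, 4], [1, 2, 2, 3, 3], [1, 2, 2, 2, 2, 3, 3, 3, 3], [1, 1, 1, 1, 2, 3, 4], [1, 1, 1, 1, 2, 2, 2, 2, 3, 3], [1, 1, 1, 1, 3], [1, 2, 2, 2, 3, 3, 4], [1, 2, 2, 2, 2, 3, 3, 3, 4], [1, 1, 1, 1, 2, 2, 3, 3, 3, 3, 4], [1, 2], [1, 1, 1, 1, 2, 2, 2, 2, 3, 3, 3, 3], [1, 2, 3, 3, 4], [1, 2, 2, 2, 2, 4], [1,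 1, 1, 1, 2, 2, 3], [1, 1, 2, 2, 2, 2, 3, 3], [1, 1, 1, 3, 3, 4], [1, 1, 1, 2, 2, 2, 3, 3, 3, 3, 4], [1, 1, 2, 2], [1, 1, 1, 1, 2, 2, 2, 2, 3, 4], [1, 2, 2, 2, 2, 3, 3], [2, 2, 2, 3], [2, 2, 2, 3, 3, 3, 3, 4], [2, 2, 2, 2, 3, 3], [2, 2, 2, 2, 3, 3, 3, 4], [1, 1, 4], [1, 1, 2, 2, 2, 2, 3, 3, 3, 3, 4], [2, 3], [1, 1, 1, 2, 3, 3, 3, 4], [1, 1, 1, 2, 2, 2, 2, 4], [1, 1, 3, 3, 3, 3], [1, 1, 1, 2, 3, 3], [1, 1, 1, 2, 2, 2], [1, 1, 1, 3], [1, 1, 1, 2, 2, 3, 3, 3, 3], [1, 1, 2, 3, 3, 3], [1, 1, 1, 2, 2, 2, 2, 3, 4], [1, 1, 1, 2, 2, 3, 3, 3, 4], [1, 1, 2, 2, 3, 3, 3, 4], [1, 1, 2, 3, 3, 4], [2, 2, 2, 2, 3, 3, 3, 3], [1, 1, 3], [1, 1, 2, 2, 2, 3, 3, 3, 3], [1, 1, 1, 2, 3, 3, 3, 3], [1, 1, 1], [2, 3, 3, 3, 3, 4], [1, 1, 3, 3, 4], [1, 1, 2, 2, 3, 3, 3, 3, 4], [1, 1, 1, 2, 4], [1, 1, 1, 2, 2, 3, 4], [1, 1, 2, 2,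 2, 2, 3, 3, 3, 4], [1, 1, 2, 4], [1, 1, 1, 2, 2, 2, 3], [1, 1, 1, 2, 2, 3, 3], [2, 2, 2, 2, 3, 4], [1, 1, 2, 2, 2, 3, 3, 3], [1, 1, 2, 3], [3, 3], [3, 4], [2, 2], [2, 4], [2, 2, 2, 2, 4], [2, 2, 2], [3, 3, 3, 3, 4], [3, 3, 3], [1, 1, 2, 3, 3, 3, 3, 4], [1, 1, 1, 2, 2], [1, 1, 3, 3, 3, 4], [1, 1, 1, 2, 3], [1, 1, 1, 1, 2, 4], [1, 3, 3, 3, 3], [1, 2, 2, 3], [1, 1, 1, 1, 2, 2, 2, 3, 3, 3, 4], [1, 1, 1, 1], [1, 3, 3, 3, 4], [1, 2, 2, 2, 3, 4], [1, 1, 1, 1, 2, 2, 2, 3, 3], [1, 3, 3], [1, 2, 2, 2, 2, 3], [1, 1, 1, 1, 2, 2, 2, 2, 4], [1, 1, 1, 1, 2, 2, 2, 3, 4], [1, 3, 4], [1, 1, 1, 1, 2, 2, 2], [1, 1, 1, 1, 2, 2], [1, 1, 1, 1, 2, 2, 2, 3, 3, 3, 3], [1, 4], [1, 2, 3, 4], [4], [], [1, 2, 3], [1], [1, 1, 1, 1, 2, 2, 2, 3, 3, 3, 3, 4], [1, 1, 1, 1, 2, 2, 4], [1, 1, 1, 1, 2, 2, 2, 4], [1, 3], [1, 1, 1, 1, 2, 2,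 2, 3], [1, 1, 1, 1, 2, 2, 2, 2], [1, 2, 2, 2, 2, 3, 4], [1, 3, 3, 4], [1, 1, 1, 1, 2, 2, 2, 3, 3, 4], [1, 2, 2, 2, 3], [1, 3, 3, 3], [1, 1, 1, 1, 4], [1, 1, 1, 1, 2, 2, 2, 3, 3, 3], [1, 2, 2, 3, 4], [1, 3, 3, 3, 3, 4], [1, 1, 1, 1, 2], [1, 1, 1, 2, 3, 4], [1, 1, 3, 3, 3], [1, 1, 1, 2, 2, 4], [1, 1, 2, 3, 3, 3, 3], [3, 3, 3, 4], [3, 3, 3, 3], [2, 2, 2, 4], [2, 2, 2, 2], [2], [2, 2, 4], [3], [3, 3, 4], [1, 1, 2, 3, 4], [1, 1, 2, 2, 2, 3, 3, 3, 4], [2, 2, 2, 2, 3], [1, 1, 1, 2, 2, 3, 3, 4], [1, 1, 1, 2, 2, 2, 3, 4], [1, 1, 2], [1, 1, 2, 2, 2, 2, 3, 3, 3], [1, 1, 1, 2, 2, 3], [1, 1, 1, 2], [1, 1, 2, 2, 3, 3, 3, 3], [1, 1, 3, 3], [2, 3, 3, 3, 3], [1, 1, 1, 4], [1, 1, 1, 2, 3, 3, 3, 3, 4], [1, 1, 2, 2, 2, 3, 3, 3, 3, 4], [1, 1, 3, 4], [2, 2, 2, 2, 3, 3, 3, 3, 4], [1, 1, 2, 3, 3], [1, 1, 2, 2, 3, 3, 3], [1,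 1, 1, 2, 2, 3, 3, 3], [1, 1, 1, 2, 2, 2, 2, 3], [1, 1, 2, 3, 3, 3, 4], [1, 1, 1, 2, 2, 3, 3, 3, 3, 4], [1, 1, 1, 3, 4], [1, 1, 1, 2, 2, 2, 4], [1, 1, 1, 2, 3, 3, 4], [1, 1, 3, 3, 3, 3, 4], [1, 1, 1, 2, 2, 2, 2], [1, 1, 1, 2, 3, 3, 3], [2, 3, 4], [1, 1, 2, 2, 2, 2, 3, 3, 3, 3], [1, 1], [2, 2, 2, 2, 3, 3, 3], [2, 2, 2, 2, 3, 3, 4], [2, 2, 2, 3, 3, 3, 3], [2, 2, 2, 3, 4], [1, 2, 2, 2, 2, 3, 3, 4], [1, 1, 1, 1, 2, 2, 2, 2, 3], [1, 1, 2, 2, 4], [1, 1, 1, 2, 2, 2, 3, 3, 3, 3], [1, 1, 1, 3, 3], [1, 1, 2, 2, 2, 2, 3, 3, 4], [1, 1, 1, 1, 2, 2, 3, 4], [1, 2, 2, 2, 2], [1, 2, 3, 3], [1, 1, 1, 1, 2, 2, 2, 2, 3, 3, 3, 3, 4], [1, 2, 4], [1, 1, 1, 1, 2, 2, 3, 3, 3, 3], [1, 2, 2, 2, 2, 3, 3, 3], [1, 2, 2, 2, 3, 3], [1, 1, 1, 1, 3, 4], [1, 1, 1, 1, 2, 2, 2, 2, 3, 3, 4], [1, 1, 1, 1, 2, 3], [1, 2, 2, 2, 2, 3, 3, 3, 3,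 4], [1, 2, 2, 3, 3, 4], [1, 1, 1, 1, 2, 2, 2, 2, 3, 3, 3], [1, 1, 1, 1, 2, 2, 3, 3], [1, 2, 2, 2, 4], [1, 2, 3, 3, 3, 4], [1, 1, 1, 1, 3, 3, 3, 3], [1, 2, 2], [1, 2, 3, 3, 3, 3], [1, 1, 1, 1, 2, 2, 3, 3, 3, 4], [1, 1, 1, 1, 2, 3, 3, 3, 3, 4], [2, 2, 3, 3, 3, 3, 4], [2, 2, 3], [2, 3, 3, 3, 4], [2, 3, 3], [1, 1, 2, 2, 3, 3, 4], [2, 2, 2, 3, 3, 3, 4], [1, 1, 2, 2, 3], [1, 1, 2, 2, 2, 3, 3], [2, 2, 3, 3, 4], [1, 1, 2, 2, 2], [1, 1, 2, 2, 2, 2, 3], [1, 1, 2, 2, 2, 2, 4], [1, 1, 1, 2, 2, 2, 3, 3], [2, 2, 2, 3, 3], [1, 1, 1, 2, 2, 2, 3, 3, 3, 4], [1, 1, 1, 2, 2, 2, 2, 3, 3, 4], [2, 2, 3, 3, 3], [1, 1, 1, 2, 2, 2, 2, 3, 3, 3, 3, 4], [1, 1, 1, 3, 3, 3, 4], [1, 1, 1, 3, 3, 3, 3], [1, 1, 1, 2, 2, 2, 2, 3, 3, 3], [1, 1, 2, 2, 2, 3, 4], [1, 2, 2, 2, 3, 3, 3, 4], [1, 1, 1, 1, 3, 3], [1, 2, 2, 2, 3, 3, 3, 3], [1,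 2, 2, 3, 3, 3], [1, 1, 1, 1, 2, 3, 3, 4], [1, 1, 1, 1, 3, 3, 3, 4], [1, 2, 2, 3, 3, 3, 3, 4], [1, 1, 1, 1, 2, 3, 3, 3]]),
  (686053159114795289240674611757597208, [[], [0, 0, 0, 0, 1, 2, 2, 2, 3, 3], [0, 1, 1, 1, 1, 2, 3, 3, 3, 3], [0, 0, 1, 1, 1, 2], [0, 0, 0, 1, 1, 3, 3, 3, 3]])]

theorem hc : C.check = true := by decide +kernel

theorem row_0 : rowOK C wE 0 = true := by decide +kernel

theorem row_1 : rowOK C wE 1 = true := by decide +kernel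

theorem row_2 : rowOK C wE 2 = true := by decide +kernel

theorem row_3 : rowOK C wE 3 = true := by decide +kernel

theorem hrows : ∀ j < C.n, rowOK C wE j = true := by
  intro j hj
  have hj' : j < 4 := hj
  interval_cases j
  · exact row_0
  · exact row_1
  · exact row_2
  · exact row_3

theorem itm_0 : itemOK C wE wY 0 = true := by decide +kernel

theorem itm_1 : itemOK C wE wY 1 = true := by decide +kernel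

theorem hitems : ∀ f < C.items.length, itemOK C wE wY f = true := by
  intro f hf
  have hf' : f < 2 := hf
  interval_cases f
  · exact itm_0
  · exact itm_1

theorem hlev : chkLev wE [] lv = true := by decide +kernel

theorem hlv : lvOK C lv = true := by decide +kernel

theorem hprod : (lv.map fun t => t.2.length).prod = 2 * C.p ^ C.n := by decide +kernel

theorem hwN : wE.getD C.n [] = [negOp] := rfl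

/-- The bound of this prime. -/
theorem main [Fact (Nat.Prime 5)] {Γ : Type*} [Group Γ] [Finite Γ] {σ : Γ →* Spor.Co1}
    (hσ : IsStemExtension σ) (hG : Nat.card Spor.Co1 = 5 ^ 4 * 6652442890469376) (P : Sylow 5 Γ) :
    Nat.card (σ.subgroupMap (P : Subgroup Γ)).ker ∣ 1 :=
  card_ker_dvd' (p := 5) (m := 6652442890469376) C hc wE wY lv hwN hrows hitems hlev hlv hprod rfl hσ hG (by norm_num) P

end Cfsg.Agent.Lib.Schur.Co1M.P5
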